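import Cfsg.Agent.Lib.GaloisPos.Basic
import Cfsg.Agent.Lib.Chars.Completeness

/-!
# Cyclotomic integers and total positivity of squared absolute values
-/

set_option autoImplicit false

namespace Cfsg.Agent.Lib.KGV

open Cfsg.Agent.Lib Cfsg.Agent.Lib.GaloisPos
open scoped ComplexConjugate

/-- The ring generated by all complex roots of unity. -/
def cycInt : Subring ℂ := Subring.closure {μ | ∃ n : ℕ, 0 < n ∧ μ ^ n = 1}

theorem root_mem_cycInt {μ : ℂ} {n : ℕ} (hn : 0 < n) (h : μ ^ n = 1) : μ ∈ cycInt :=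
  Subring.subset_closure ⟨n, hn, h⟩

theorem natCast_mem_cycInt (n : ℕ) : (n : ℂ) ∈ cycInt := natCast_mem cycInt n

theorem isIntegral_of_mem_cycInt {z : ℂ} (h : z ∈ cycInt) : IsIntegral ℤ z := by
  refine Subring.closure_induction (p := fun z _ => IsIntegral ℤ z) ?_ isIntegral_zero isIntegral_one
    (fun _ _ _ _ => IsIntegral.add) (fun _ _ => IsIntegral.neg) (fun _ _ _ _ => IsIntegral.mul) h
  rintro μ ⟨n, hn, hμ⟩
  exact IsIntegral.of_pow hn (by rw [hμ]; exact isIntegral_one)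

theorem conj_mem_cycInt {z : ℂ} (h : z ∈ cycInt) : conj z ∈ cycInt := by
  refine Subring.closure_induction (p := fun z _ => conj z ∈ cycInt) ?_ (by simp) (by simp)
    (fun _ _ _ _ ha hb => by simpa using add_mem ha hb) (fun _ _ ha => by simpa using ha)
    (fun _ _ _ _ ha hb => by simpa using mul_mem ha hb) h
  rintro μ ⟨n, hn, hμ⟩
  exact root_mem_cycInt hn (by rw [← map_pow, hμ, map_one])

theorem char_mem_cycInt {G : Type*} [Group G] [Finite G] {χ : G → ℂ} (hχ : IsCharacter G χ)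
    (g : G) : χ g ∈ cycInt := by
  obtain ⟨n, ρ, rfl⟩ := hχ
  obtain ⟨ι, _, μ, -, hμ, hsum, -⟩ := Chars.exists_roots_sum ρ g
  rw [hsum]
  exact sum_mem fun i _ => root_mem_cycInt (orderOf_pos g) (hμ i)

theorem mem_qbar_of_mem_cycInt {z : ℂ} (h : z ∈ cycInt) : z ∈ QBar :=
  mem_qbar_of_isIntegral (isIntegral_of_mem_cycInt h)

/-- Every embedding commutes with complex conjugation on cyclotomic integers. -/
theorem map_conj_cycInt (ψ : QBar →ₐ[ℚ] ℂ) {z : ℂ} (h : z ∈ cycInt) :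
    ψ ⟨conj z, mem_qbar_of_mem_cycInt (conj_mem_cycInt h)⟩ =
      conj (ψ ⟨z, mem_qbar_of_mem_cycInt h⟩) := by
  refine Subring.closure_induction (p := fun z hz =>
    ψ ⟨conj z, mem_qbar_of_mem_cycInt (conj_mem_cycInt hz)⟩ =
      conj (ψ ⟨z, mem_qbar_of_mem_cycInt hz⟩)) ?_ ?_ ?_ ?_ ?_ ?_ h
  · rintro μ ⟨n, hn, hμ⟩
    have hm := mem_qbar_of_mem_cycInt (root_mem_cycInt hn hμ)
    have h1 : ‖μ‖ = 1 := Chars.norm_eq_one_of_pow_eq_one hn hμ
    have hq : (⟨conj μ, mem_qbar_of_mem_cycInt (conj_mem_cycInt (root_mem_cycInt hn hμ))⟩ : QBar)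
        = ⟨μ, hm⟩⁻¹ :=
      Subtype.ext (by simp [← Complex.inv_eq_conj h1])
    have h2 : ‖ψ ⟨μ, hm⟩‖ = 1 := by
      refine Chars.norm_eq_one_of_pow_eq_one hn ?_
      rw [← map_pow, show (⟨μ, hm⟩ : QBar) ^ n = 1 from Subtype.ext (by simpa using hμ), map_one]
    rw [hq, map_inv₀, Complex.inv_eq_conj h2]
  · simp [show (⟨(0 : ℂ), _⟩ : QBar) = 0 from rfl]
  · simp [show (⟨(1 : ℂ), _⟩ : QBar) = 1 from rfl]
  · intro x y hx hy ex ey
    have e1 : (⟨conj (x + y), mem_qbar_of_mem_cycInt (conj_mem_cycInt (add_mem hx hy))⟩ : QBar)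
        = ⟨conj x, mem_qbar_of_mem_cycInt (conj_mem_cycInt hx)⟩
          + ⟨conj y, mem_qbar_of_mem_cycInt (conj_mem_cycInt hy)⟩ := Subtype.ext (map_add _ _ _)
    have e2 : (⟨x + y, mem_qbar_of_mem_cycInt (add_mem hx hy)⟩ : QBar)
        = ⟨x, mem_qbar_of_mem_cycInt hx⟩ + ⟨y, mem_qbar_of_mem_cycInt hy⟩ := rfl
    rw [e1, e2, map_add, map_add, map_add, ex, ey]
  · intro x hx ex
    have e1 : (⟨conj (-x), mem_qbar_of_mem_cycInt (conj_mem_cycInt (neg_mem hx))⟩ : QBar)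
        = -⟨conj x, mem_qbar_of_mem_cycInt (conj_mem_cycInt hx)⟩ := Subtype.ext (map_neg _ _)
    have e2 : (⟨-x, mem_qbar_of_mem_cycInt (neg_mem hx)⟩ : QBar)
        = -⟨x, mem_qbar_of_mem_cycInt hx⟩ := rfl
    rw [e1, e2, map_neg, map_neg, map_neg, ex]
  · intro x y hx hy ex ey
    have e1 : (⟨conj (x * y), mem_qbar_of_mem_cycInt (conj_mem_cycInt (mul_mem hx hy))⟩ : QBar)
        = ⟨conj x, mem_qbar_of_mem_cycInt (conj_mem_cycInt hx)⟩
          * ⟨conj y, mem_qbar_of_mem_cycInt (conj_mem_cycInt hy)⟩ := Subtype.ext (map_mul _ _ _)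
    have e2 : (⟨x * y, mem_qbar_of_mem_cycInt (mul_mem hx hy)⟩ : QBar)
        = ⟨x, mem_qbar_of_mem_cycInt hx⟩ * ⟨y, mem_qbar_of_mem_cycInt hy⟩ := rfl
    rw [e1, e2, map_mul, map_mul, map_mul, ex, ey]

theorem normSq_mem_cycInt {z : ℂ} (h : z ∈ cycInt) :
    ((Complex.normSq z : ℝ) : ℂ) ∈ cycInt := by
  rw [← Complex.mul_conj]; exact mul_mem h (conj_mem_cycInt h)

/-- Embeddings send squared absolute values of cyclotomic integers to squared absolute values. -/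
theorem map_normSq_cycInt (ψ : QBar →ₐ[ℚ] ℂ) {z : ℂ} (h : z ∈ cycInt) :
    ψ ⟨((Complex.normSq z : ℝ) : ℂ), mem_qbar_of_mem_cycInt (normSq_mem_cycInt h)⟩ =
      ((Complex.normSq (ψ ⟨z, mem_qbar_of_mem_cycInt h⟩) : ℝ) : ℂ) := by
  have e : (⟨((Complex.normSq z : ℝ) : ℂ), mem_qbar_of_mem_cycInt (normSq_mem_cycInt h)⟩ : QBar)
      = ⟨z, mem_qbar_of_mem_cycInt h⟩ * ⟨conj z, mem_qbar_of_mem_cycInt (conj_mem_cycInt h)⟩ :=
    Subtype.ext (Complex.mul_conj z).symm
  rw [e, map_mul, map_conj_cycInt ψ h, Complex.mul_conj]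

/-- Finitely many non-zero cyclotomic integers whose squared absolute values have a rational sum
number at most that sum. -/
theorem card_le_sum_normSq_of_rational {ι : Type*} [Fintype ι] (b : ι → ℂ)
    (hb : ∀ i, b i ∈ cycInt) (hb0 : ∀ i, b i ≠ 0) (S : ℚ)
    (hS : ∑ i, Complex.normSq (b i) = (S : ℝ)) : (Fintype.card ι : ℝ) ≤ (S : ℝ) := by
  classical
  have := isAlgebraic_qbar
  let a : ι → QBar := fun i => ⟨_, mem_qbar_of_mem_cycInt (normSq_mem_cycInt (hb i))⟩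
  let ev : (QBar →ₐ[ℚ] ℂ) → (ι → ℂ) := fun τ i => τ (a i)
  have hfin : (Set.range ev).Finite := by
    refine (Set.Finite.pi (t := fun i => (minpoly ℚ (a i)).rootSet ℂ)
      fun i => Polynomial.rootSet_finite _ _).subset ?_
    rintro _ ⟨τ, rfl⟩ i -
    show τ (a i) ∈ (minpoly ℚ (a i)).rootSet ℂ
    rw [← Algebra.IsAlgebraic.range_eval_eq_rootSet_minpoly ℂ (a i)]
    exact ⟨τ, rfl⟩
  let T : Finset (ι → ℂ) := hfin.toFinset
  have hT : ∀ v ∈ T, ∃ τ : QBar →ₐ[ℚ] ℂ, ∀ i, v i = τ (a i) := by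
    intro v hv
    obtain ⟨τ, rfl⟩ := hfin.mem_toFinset.mp hv
    exact ⟨τ, fun i => rfl⟩
  have hTne : T.Nonempty := ⟨ev QBar.val, hfin.mem_toFinset.mpr ⟨_, rfl⟩⟩
  have hval : ∀ τ : QBar →ₐ[ℚ] ℂ, ∀ i, τ (a i) =
      ((Complex.normSq (τ ⟨b i, mem_qbar_of_mem_cycInt (hb i)⟩) : ℝ) : ℂ) :=
    fun τ i => map_normSq_cycInt τ (hb i)
  let r : (ι → ℂ) × ι → ℝ := fun x => (x.1 x.2).re
  have hmain := card_ne_zero_le_sum (T ×ˢ (Finset.univ : Finset ι)) (fun x => x.1 x.2)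
    (fun x hx => by
      obtain ⟨τ, hτ⟩ := hT x.1 (Finset.mem_product.mp hx).1
      rw [hτ x.2]
      exact map_isIntegral_int τ ((isIntegral_algHom_iff (QBar.val.restrictScalars ℤ)
        Subtype.val_injective).mp (isIntegral_of_mem_cycInt (normSq_mem_cycInt (hb x.2)))))
    r
    (fun x hx => by
      obtain ⟨τ, hτ⟩ := hT x.1 (Finset.mem_product.mp hx).1
      simp only [r]
      rw [hτ x.2, hval]
      simp)
    (fun x hx => by
      obtain ⟨τ, hτ⟩ := hT x.1 (Finset.mem_product.mp hx).1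
      simp only [r]
      rw [hτ x.2, hval]
      simp [Complex.normSq_nonneg])
    (fun ρ => by
      let f : (ι → ℂ) → (ι → ℂ) := fun v i => if h : v i ∈ QBar then ρ ⟨v i, h⟩ else v i
      have hf : ∀ v ∈ T, ∀ i, ∀ h : v i ∈ QBar, f v i = ρ ⟨v i, h⟩ := fun v _ i h => dif_pos h
      have hmem : ∀ v ∈ T, ∀ i, v i ∈ QBar := fun v hv i => by
        obtain ⟨τ, hτ⟩ := hT v hv
        rw [hτ i]
        exact mem_algebraicClosure_iff.mpr
          ((Algebra.IsAlgebraic.isAlgebraic (a i)).algHom τ)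
      have hfT : ∀ v ∈ T, f v ∈ T := by
        intro v hv
        obtain ⟨τ, hτ⟩ := hT v hv
        let τ' : QBar →ₐ[ℚ] QBar := τ.codRestrict QBar.toSubalgebra fun x =>
          mem_algebraicClosure_iff.mpr ((Algebra.IsAlgebraic.isAlgebraic x).algHom τ)
        refine hfin.mem_toFinset.mpr ⟨ρ.comp τ', funext fun i => ?_⟩
        rw [hf v hv i (hmem v hv i)]
        show ρ (τ' (a i)) = _
        exact congrArg ρ (Subtype.ext (hτ i).symm)
      refine ⟨fun x => (f x.1, x.2), fun x hx => Finset.mem_product.mpr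
        ⟨hfT _ (Finset.mem_product.mp hx).1, Finset.mem_univ _⟩, ?_, fun x hx h => ?_⟩
      · intro x hx y hy hxy
        simp only [Prod.mk.injEq] at hxy
        refine Prod.ext (funext fun i => ?_) hxy.2
        have h1 := congrFun hxy.1 i
        rw [hf _ (Finset.mem_product.mp hx).1 i (hmem _ (Finset.mem_product.mp hx).1 i),
          hf _ (Finset.mem_product.mp hy).1 i (hmem _ (Finset.mem_product.mp hy).1 i)] at h1
        exact congrArg Subtype.val (ρ.injective h1)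
      · exact (hf _ (Finset.mem_product.mp hx).1 x.2 h).symm)
  rw [Finset.filter_true_of_mem fun x hx => by
      obtain ⟨τ, hτ⟩ := hT x.1 (Finset.mem_product.mp hx).1
      rw [hτ x.2]
      simp only [ne_eq, map_eq_zero]
      intro h
      have h' : ((Complex.normSq (b x.2) : ℝ) : ℂ) = 0 := congrArg Subtype.val h
      have : Complex.normSq (b x.2) = 0 := by exact_mod_cast h'
      exact hb0 x.2 (Complex.normSq_eq_zero.mp this),
    Finset.card_product, Finset.sum_product, Finset.card_univ] at hmain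
  have hsum : ∀ v ∈ T, ∑ i, r (v, i) = (S : ℝ) := by
    intro v hv
    obtain ⟨τ, hτ⟩ := hT v hv
    have hA : ∑ i, a i = algebraMap ℚ QBar S := Subtype.ext (by
      rw [coe_qbar_sum]
      show ∑ i, ((Complex.normSq (b i) : ℝ) : ℂ) = (algebraMap ℚ ℂ S)
      rw [← Complex.ofReal_sum, hS]
      simp)
    have h1 : ∑ i, v i = ((S : ℝ) : ℂ) := by
      rw [Finset.sum_congr rfl fun i _ => hτ i, ← map_sum, hA, AlgHom.commutes]
      simp
    simp only [r]
    rw [← Complex.re_sum, h1, Complex.ofReal_re]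
  rw [Finset.sum_congr rfl hsum, Finset.sum_const, nsmul_eq_mul, Nat.cast_mul] at hmain
  exact le_of_mul_le_mul_left hmain (by exact_mod_cast hTne.card_pos)

end Cfsg.Agent.Lib.KGV
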