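import Cfsg.Agent.Lib.KGV.CycInt
import Cfsg.Agent.Lib.Chars.Ops
import Cfsg.Agent.Lib.Chars.Induced

/-!
# Combinations of irreducible characters with cyclotomic-integer coefficients
-/

set_option autoImplicit false

namespace Cfsg.Agent.Lib.KGV

open Cfsg.Agent.Lib
open scoped ComplexConjugate

universe u v

variable {G : Type u} [Group G] [Finite G]

/-- A combination of irreducible characters with cyclotomic-integer coefficients. -/
def IsCycComb (φ : G → ℂ) : Prop :=
  ∃ c : IrrCharacter G → ℂ, (∀ θ, c θ ∈ cycInt) ∧ φ = ∑ θ, c θ • (θ : G → ℂ)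

theorem isCycComb_isClassFunction {φ : G → ℂ} (h : IsCycComb φ) : IsClassFunction G φ := by
  obtain ⟨c, -, rfl⟩ := h
  exact Chars.isClassFunction_sum _ fun θ _ =>
    Chars.isClassFunction_smul _ (Chars.irr_isClassFunction θ)

theorem isCycComb_of_isCharacter {φ : G → ℂ} (h : IsCharacter G φ) : IsCycComb φ := by
  obtain ⟨m, rfl⟩ := Chars.isCharacter_exists_nat_decomp h
  exact ⟨fun θ => (m θ : ℂ), fun θ => natCast_mem_cycInt _, rfl⟩

theorem isCycComb_zero : IsCycComb (0 : G → ℂ) :=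
  ⟨0, fun _ => zero_mem _, by simp⟩

theorem isCycComb_add {φ φ' : G → ℂ} (h : IsCycComb φ) (h' : IsCycComb φ') :
    IsCycComb (φ + φ') := by
  obtain ⟨c, hc, rfl⟩ := h
  obtain ⟨c', hc', rfl⟩ := h'
  exact ⟨c + c', fun θ => add_mem (hc θ) (hc' θ), by simp [add_smul, Finset.sum_add_distrib]⟩

theorem isCycComb_smul {φ : G → ℂ} {z : ℂ} (hz : z ∈ cycInt) (h : IsCycComb φ) :
    IsCycComb (z • φ) := by
  obtain ⟨c, hc, rfl⟩ := h
  exact ⟨z • c, fun θ => mul_mem hz (hc θ), by simp [Finset.smul_sum, smul_smul]⟩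

theorem isCycComb_sum {ι : Type*} (s : Finset ι) {f : ι → G → ℂ}
    (h : ∀ i ∈ s, IsCycComb (f i)) : IsCycComb (∑ i ∈ s, f i) :=
  Finset.sum_induction _ _ (fun _ _ => isCycComb_add) isCycComb_zero h

theorem isCycComb_mul {φ φ' : G → ℂ} (h : IsCycComb φ) (h' : IsCycComb φ') :
    IsCycComb (φ * φ') := by
  obtain ⟨c, hc, rfl⟩ := h
  obtain ⟨c', hc', rfl⟩ := h'
  rw [Finset.sum_mul_sum]
  refine isCycComb_sum _ fun θ _ => isCycComb_sum _ fun η _ => ?_
  rw [smul_mul_smul_comm]
  exact isCycComb_smul (mul_mem (hc θ) (hc' η))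
    (isCycComb_of_isCharacter (Chars.isCharacter_mul (Chars.irr_isCharacter θ)
      (Chars.irr_isCharacter η)))

theorem isCycComb_one : IsCycComb (fun _ : G => (1 : ℂ)) :=
  isCycComb_of_isCharacter (Chars.isCharacter_of_isIrrCharacter Chars.isIrrCharacter_one)

theorem isCycComb_classInner_mem [Fintype G] {φ : G → ℂ} (h : IsCycComb φ) (θ : IrrCharacter G) :
    classInner φ (θ : G → ℂ) ∈ cycInt := by
  obtain ⟨c, hc, rfl⟩ := h
  rw [Chars.classInner_sum_smul_irr]
  exact hc θ

/-- For a subgroup `C` centralising `v`, the function `h ↦ χ (h * v)` on `C` is a cyclotomic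
combination. -/
theorem isCycComb_mul_commuting {X : Type v} [Group X] [Finite X] {χ : X → ℂ}
    (hχ : IsCharacter X χ) (C : Subgroup X) (v : X) (hcomm : ∀ h ∈ C, h * v = v * h) :
    IsCycComb (fun h : C => χ ((h : X) * v)) := by
  classical
  let Γ := C × Subgroup.zpowers v
  let f : Γ →* X := MonoidHom.noncommCoprod C.subtype (Subgroup.zpowers v).subtype (fun a b => by
    obtain ⟨k, hk⟩ := Subgroup.mem_zpowers_iff.mp b.2
    show Commute (a : X) (b : X)
    rw [← hk]
    exact Commute.zpow_right (hcomm a a.2) k)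
  obtain ⟨m, hm⟩ := Chars.isCharacter_exists_nat_decomp (Chars.isCharacter_comp f hχ)
  let := Fintype.ofFinite Γ
  let w : Γ := (1, ⟨v, Subgroup.mem_zpowers v⟩)
  have e : (fun h : C => χ ((h : X) * v))
      = ∑ θ : IrrCharacter Γ, fun h : C => (m θ : ℂ) * (θ : Γ → ℂ) ((h, 1) * w) := by
    funext h
    have := congrFun hm ((h, 1) * w)
    simp only [Finset.sum_apply, Pi.smul_apply, smul_eq_mul] at this ⊢
    rw [← this]
    rw [show ((h, 1) : Γ) * w = (h, ⟨v, Subgroup.mem_zpowers v⟩) from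
      Prod.ext (mul_one h) (one_mul _)]
    rfl
  rw [e]
  refine isCycComb_sum _ fun θ _ => ?_
  obtain ⟨n, σ, hσ, hσθ⟩ := θ.2
  obtain ⟨c, hc⟩ := Chars.exists_scalar_of_commute σ (σ w) (fun x => by
    show σ w * σ x = σ x * σ w
    rw [← map_mul, ← map_mul]
    congr 1
    refine Prod.ext (show w.1 * x.1 = x.1 * w.1 by rw [show w.1 = 1 from rfl, one_mul, mul_one]) ?_
    exact mul_comm' _ _)
  have := Chars.nontrivial_of_isIrreducible σ
  have hcroot : c ^ orderOf w = 1 := by
    have h1 : σ w ^ orderOf w = 1 := by rw [← map_pow, pow_orderOf_eq_one, map_one]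
    rw [hc, smul_pow, one_pow] at h1
    exact smul_left_injective ℂ (one_ne_zero (α := Module.End ℂ (Fin n → ℂ))) (by simpa using h1)
  have e2 : (fun h : C => (m θ : ℂ) * (θ : Γ → ℂ) ((h, 1) * w))
      = ((m θ : ℂ) * c) • fun h : C => (θ : Γ → ℂ) (h, 1) := by
    funext h
    rw [← hσθ]
    simp only [Pi.smul_apply, smul_eq_mul, Representation.character, map_mul, hc, mul_smul_comm,
      mul_one, map_smul]
    ring
  rw [e2]
  refine isCycComb_smul (mul_mem (natCast_mem_cycInt _) (root_mem_cycInt (orderOf_pos w) hcroot)) ?_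
  exact isCycComb_of_isCharacter
    (Chars.isCharacter_comp (MonoidHom.inl C (Subgroup.zpowers v)) (Chars.irr_isCharacter θ))

end Cfsg.Agent.Lib.KGV
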