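import Cfsg.Agent.Lib.KGV.Basic
import Cfsg.Agent.Lib.KGV.CycComb
import Cfsg.Agent.Lib.Blocks.LocalRing

/-!
# Knörr's bound for `k(GV)`
-/

set_option autoImplicit false

namespace Cfsg.Agent.Lib.KGV

open Cfsg.Agent.Lib Cfsg.Agent.Lib.Blocks
open scoped ComplexConjugate

universe u

theorem cycInt_memLocalRing {M : Ideal AlgInt} [M.IsPrime] {z : ℂ} (hz : z ∈ cycInt) :
    MemLocalRing M z :=
  mem_localRing.mp (isIntegral_mem_localRing (isIntegral_of_mem_cycInt hz))

/-- Character values at `p`-elements are congruent to the degree. -/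
theorem memLocalIdeal_char_sub_degree {X : Type u} [Group X] [Finite X] {M : Ideal AlgInt}
    [M.IsPrime] {p : ℕ} (hM : IsPModular p M) {χ : X → ℂ} (hχ : IsCharacter X χ) {v : X} {a : ℕ}
    (hv : v ^ p ^ a = 1) : MemLocalIdeal M (χ v - χ 1) := by
  obtain ⟨n, ρ, rfl⟩ := hχ
  obtain ⟨ι, _, μ, hι, hμ, hsum, -⟩ := Chars.exists_roots_sum ρ v
  have e : ρ.character v - ρ.character 1 = ∑ i, (μ i - 1) := by
    rw [Finset.sum_sub_distrib, hsum, ρ.char_one, Finset.sum_const, Finset.card_univ, hι,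
      nsmul_eq_mul, mul_one]
  rw [e]
  refine memLocalIdeal_sum _ _ fun i _ => memLocalIdeal_sub_one_of_pow_eq_one hM (k := a) ?_
  obtain ⟨c, hc⟩ := orderOf_dvd_of_pow_eq_one hv
  rw [hc, pow_mul, hμ i, one_pow]

section

variable {X : Type u} [Group X] [Finite X] (V : Subgroup X) (G : Subgroup X)

/-- The centraliser of `h * v` for `v` in an abelian normal `p`-subgroup `V` and `h` in a
complement of order prime to `p` fixing `v`. -/
theorem card_centralizer_mul [V.Normal] (hab : ∀ a ∈ V, ∀ b ∈ V, a * b = b * a)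
    (hGV : Subgroup.IsComplement' V G) (hcop : (Nat.card V).Coprime (Nat.card G))
    (v : X) (hv : v ∈ V) (h : ↥(G ⊓ Subgroup.centralizer ({v} : Set X))) :
    Nat.card (Subgroup.centralizer ({(h : X) * v} : Set X))
      = Nat.card (Subgroup.centralizer ({h} : Set ↥(G ⊓ Subgroup.centralizer ({v} : Set X))))
        * Nat.card ↥(V ⊓ Subgroup.centralizer ({(h : X)} : Set X)) := by
  have hhv : Commute (h : X) v := Subgroup.mem_centralizer_singleton_iff.mp h.2.2
  have key : ∀ x : X, Commute x ((h : X) * v) → Commute x (h : X) ∧ Commute x v := by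
    intro x hx
    obtain ⟨k, hk⟩ : ∃ k : ℕ, v ^ k = 1 ∧ (h : X) ^ k = h := by
      obtain ⟨k, h1, h2⟩ := Nat.chineseRemainder hcop 0 1
      refine ⟨k, ?_, ?_⟩
      · obtain ⟨c, hc⟩ := Nat.modEq_zero_iff_dvd.mp h1
        have : v ^ Nat.card V = 1 := congrArg Subtype.val (pow_card_eq_one' (x := (⟨v, hv⟩ : V)))
        rw [hc, pow_mul, this, one_pow]
      · have : (h : X) ^ Nat.card G = 1 :=
          congrArg Subtype.val (pow_card_eq_one' (x := (⟨h, h.2.1⟩ : G)))
        rw [pow_eq_pow_mod k this, h2, ← pow_eq_pow_mod 1 this, pow_one]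
    have h1 : Commute x (h : X) := by
      have := hx.pow_right k
      rwa [hhv.mul_pow, hk.1, hk.2, mul_one] at this
    refine ⟨h1, ?_⟩
    have := h1.inv_right.mul_right hx
    rwa [inv_mul_cancel_left] at this
  rw [← Nat.card_prod]
  let f : Subgroup.centralizer ({h} : Set ↥(G ⊓ Subgroup.centralizer ({v} : Set X))) ×
      ↥(V ⊓ Subgroup.centralizer ({(h : X)} : Set X)) →
        Subgroup.centralizer ({(h : X) * v} : Set X) := fun q =>
    ⟨(q.2 : X) * ((q.1 : ↥(G ⊓ Subgroup.centralizer ({v} : Set X))) : X), by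
      rw [Subgroup.mem_centralizer_singleton_iff]
      have a1 : Commute (q.2 : X) ((h : X) * v) :=
        Commute.mul_right (Subgroup.mem_centralizer_singleton_iff.mp q.2.2.2)
          (hab _ q.2.2.1 v hv)
      have a2 : Commute ((q.1 : ↥(G ⊓ Subgroup.centralizer ({v} : Set X))) : X) ((h : X) * v) :=
        Commute.mul_right
          (congrArg Subtype.val (Subgroup.mem_centralizer_singleton_iff.mp q.1.2))
          (Subgroup.mem_centralizer_singleton_iff.mp q.1.1.2.2)
      exact (a1.mul_left a2).eq⟩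
  refine (Nat.card_congr (Equiv.ofBijective f ⟨fun q q' e => ?_, fun c => ?_⟩)).symm
  · have e' : (q.2 : X) * ((q.1 : ↥(G ⊓ Subgroup.centralizer ({v} : Set X))) : X)
        = (q'.2 : X) * ((q'.1 : ↥(G ⊓ Subgroup.centralizer ({v} : Set X))) : X) :=
      congrArg Subtype.val e
    have := hGV.1 (a₁ := (⟨q.2, q.2.2.1⟩, ⟨q.1, q.1.1.2.1⟩))
      (a₂ := (⟨q'.2, q'.2.2.1⟩, ⟨q'.1, q'.1.1.2.1⟩)) e'
    simp only [Prod.mk.injEq, Subtype.mk.injEq] at this
    exact Prod.ext (Subtype.ext (Subtype.ext this.2)) (Subtype.ext this.1)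
  · obtain ⟨⟨a, g⟩, hag⟩ := hGV.2 (c : X)
    simp only at hag
    obtain ⟨hch, hcv⟩ := key c (Subgroup.mem_centralizer_singleton_iff.mp c.2)
    have hgv : Commute (g : X) v := by
      have h' : Commute (a : X) v := hab _ a.2 v hv
      have := h'.inv_left.mul_left (hag ▸ hcv)
      rwa [inv_mul_cancel_left] at this
    have hah : Commute (a : X) h ∧ Commute (g : X) h := by
      have e1 : (a : X) * ((g : X) * h) = ((h : X) * a * (h : X)⁻¹) * ((h : X) * g) := by
        calc (a : X) * ((g : X) * h) = (c : X) * h := by rw [← hag]; group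
          _ = (h : X) * c := hch.eq
          _ = ((h : X) * a * (h : X)⁻¹) * ((h : X) * g) := by rw [← hag]; group
      have := hGV.1 (a₁ := (a, ⟨(g : X) * h, G.mul_mem g.2 h.2.1⟩))
        (a₂ := (⟨(h : X) * a * (h : X)⁻¹, Subgroup.Normal.conj_mem inferInstance _ a.2 _⟩,
          ⟨(h : X) * g, G.mul_mem h.2.1 g.2⟩)) e1
      simp only [Prod.mk.injEq, Subtype.mk.injEq] at this
      refine ⟨?_, this.2⟩
      have e2 : (a : X) = (h : X) * a * (h : X)⁻¹ := congrArg Subtype.val this.1
      show (a : X) * h = h * a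
      conv_lhs => rw [e2]
      group
    refine ⟨(⟨⟨g, g.2, Subgroup.mem_centralizer_singleton_iff.mpr hgv⟩,
      Subgroup.mem_centralizer_singleton_iff.mpr (Subtype.ext hah.2)⟩,
      ⟨a, a.2, Subgroup.mem_centralizer_singleton_iff.mpr hah.1⟩), Subtype.ext hag⟩

/-- **Knörr's bound**: if the stabiliser `C` of `v` in `G` carries a cyclotomic combination `ψ`
which is a unit at `1`, is divisible by `p` elsewhere and satisfies
`|ψ h|² · |C_V(h)| ≤ |V|`, then `k(GV) ≤ |V|`. -/
theorem card_conjClasses_le_of_knorr [V.Normal] {p : ℕ} [Fact p.Prime] (hVp : IsPGroup p V)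
    (hidx : ¬ p ∣ V.index) (hab : ∀ a ∈ V, ∀ b ∈ V, a * b = b * a)
    (hGV : Subgroup.IsComplement' V G) (v : X) (hv : v ∈ V)
    {M : Ideal AlgInt} (hM : IsPModular p M)
    (ψ : ↥(G ⊓ Subgroup.centralizer ({v} : Set X)) → ℂ) (hψ : IsCycComb ψ)
    (f : ↥(G ⊓ Subgroup.centralizer ({v} : Set X)) → ℕ)
    (hf : ∀ h, Complex.normSq (ψ h) = f h) (hψ1 : ¬ MemLocalIdeal M (ψ 1))
    (hψh : ∀ h, h ≠ 1 → MemLocalIdeal M (ψ h))
    (hle : ∀ h, f h * Nat.card ↥(V ⊓ Subgroup.centralizer ({(h : X)} : Set X)) ≤ Nat.card V) :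
    Nat.card (ConjClasses X) ≤ Nat.card V := by
  classical
  have : M.IsPrime := isPModular_isPrime hM
  let := Fintype.ofFinite X
  let := Fintype.ofFinite (G ⊓ Subgroup.centralizer ({v} : Set X) : Subgroup X)
  have hGidx : Nat.card G = V.index := by rw [← hGV.symm.index_eq_card]
  have hcop : (Nat.card V).Coprime (Nat.card G) := by
    obtain ⟨n, hn⟩ := IsPGroup.iff_card.mp hVp
    rw [hn, hGidx]
    exact Nat.Coprime.pow_left _ ((Fact.out : p.Prime).coprime_iff_not_dvd.mpr hidx)
  have hpC : ¬ p ∣ Nat.card (G ⊓ Subgroup.centralizer ({v} : Set X) : Subgroup X) := fun h => hidx (hGidx ▸ h.trans (Subgroup.card_dvd_of_le inf_le_left))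
  obtain ⟨a, ha⟩ : ∃ a : ℕ, v ^ p ^ a = 1 := by
    obtain ⟨a, ha⟩ := hVp ⟨v, hv⟩
    exact ⟨a, congrArg Subtype.val ha⟩
  have hcomm : ∀ h ∈ (G ⊓ Subgroup.centralizer ({v} : Set X) : Subgroup X), h * v = v * h := fun h hh => Subgroup.mem_centralizer_singleton_iff.mp hh.2
  let η : IrrCharacter X → (G ⊓ Subgroup.centralizer ({v} : Set X) : Subgroup X) → ℂ := fun χ => (fun h : (G ⊓ Subgroup.centralizer ({v} : Set X) : Subgroup X) => (χ : X → ℂ) ((h : X) * v)) * ψ
  have hη : ∀ χ, IsCycComb (η χ) := fun χ =>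
    isCycComb_mul (isCycComb_mul_commuting (Chars.irr_isCharacter χ) (G ⊓ Subgroup.centralizer ({v} : Set X) : Subgroup X) v hcomm) hψ
  let b : IrrCharacter X × IrrCharacter (G ⊓ Subgroup.centralizer ({v} : Set X) : Subgroup X) → ℂ :=
    fun x => classInner (η x.1) (x.2 : (G ⊓ Subgroup.centralizer ({v} : Set X) : Subgroup X) → ℂ)
  have hb : ∀ x, b x ∈ cycInt := fun x => isCycComb_classInner_mem (hη x.1) x.2
  have hb0 : ∀ x, b x ≠ 0 := by
    rintro ⟨χ, θ⟩ h0
    simp only [b, classInner, mul_eq_zero, inv_eq_zero, Chars.natCard_ne_zero, false_or] at h0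
    rw [← Finset.add_sum_erase _ _ (Finset.mem_univ (1 : (G ⊓ Subgroup.centralizer ({v} : Set X) : Subgroup X)))] at h0
    obtain ⟨d, hd, hd1, hdvd⟩ := exists_degree_dvd_index V hab χ
    obtain ⟨e, he, he1, hedvd⟩ := Chars.irr_degree_dvd_card θ
    have hrest : MemLocalIdeal M (∑ h ∈ Finset.univ.erase (1 : (G ⊓ Subgroup.centralizer ({v} : Set X) : Subgroup X)),
        η χ h * conj ((θ : (G ⊓ Subgroup.centralizer ({v} : Set X) : Subgroup X) → ℂ) h)) := by
      refine memLocalIdeal_sum _ _ fun h hh => ?_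
      refine memLocalIdeal_mul_right (memLocalIdeal_mul_left ?_ (hψh h (Finset.mem_erase.mp hh).1))
        (cycInt_memLocalRing (conj_mem_cycInt (char_mem_cycInt (Chars.irr_isCharacter θ) h)))
      exact cycInt_memLocalRing (char_mem_cycInt (Chars.irr_isCharacter χ) _)
    have hmain : MemLocalIdeal M (η χ 1 * conj ((θ : (G ⊓ Subgroup.centralizer ({v} : Set X) : Subgroup X) → ℂ) 1)) := by
      rw [eq_neg_of_add_eq_zero_left h0]
      exact memLocalIdeal_neg hrest
    have hχv : ¬ MemLocalIdeal M ((χ : X → ℂ) v) := by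
      intro hbad
      apply hidx
      have := memLocalIdeal_sub hbad
        (memLocalIdeal_char_sub_degree hM (Chars.irr_isCharacter χ) ha)
      rw [sub_sub_cancel, hd1, memLocalIdeal_natCast_iff hM] at this
      exact this.trans hdvd
    have hθ1 : ¬ MemLocalIdeal M (conj ((θ : (G ⊓ Subgroup.centralizer ({v} : Set X) : Subgroup X) → ℂ) 1)) := by
      rw [he1, Complex.conj_natCast, memLocalIdeal_natCast_iff hM]
      exact fun h => hpC (h.trans hedvd)
    have hη1 : η χ 1 = (χ : X → ℂ) v * ψ 1 := by simp [η]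
    rw [hη1] at hmain
    have hψR : MemLocalRing M (ψ 1) := by
      obtain ⟨c, hc, rfl⟩ := hψ
      simp only [Finset.sum_apply, Pi.smul_apply, smul_eq_mul]
      exact cycInt_memLocalRing (sum_mem fun x _ =>
        mul_mem (hc x) (char_mem_cycInt (Chars.irr_isCharacter x) _))
    have hχR := cycInt_memLocalRing (M := M) (char_mem_cycInt (Chars.irr_isCharacter χ) v)
    exact not_memLocalIdeal_mul (mem_localRing.mp (mul_mem (mem_localRing.mpr hχR)
        (mem_localRing.mpr hψR)))
      (cycInt_memLocalRing (conj_mem_cycInt (char_mem_cycInt (Chars.irr_isCharacter θ) 1)))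
      (not_memLocalIdeal_mul hχR hψR hχv hψ1) hθ1 hmain
  -- the sum of all squared absolute values
  let T : ℕ := ∑ h : (G ⊓ Subgroup.centralizer ({v} : Set X) : Subgroup X), f h * (Nat.card (Subgroup.centralizer ({h} : Set (G ⊓ Subgroup.centralizer ({v} : Set X) : Subgroup X)))
    * Nat.card ↥(V ⊓ Subgroup.centralizer ({(h : X)} : Set X)))
  have hsum : ∑ x, Complex.normSq (b x) = (((T : ℚ) / Nat.card (G ⊓ Subgroup.centralizer ({v} : Set X) : Subgroup X) : ℚ) : ℝ) := by
    have h1 : ∀ χ : IrrCharacter X, ∑ θ : IrrCharacter (G ⊓ Subgroup.centralizer ({v} : Set X) : Subgroup X), Complex.normSq (b (χ, θ)) =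
        (Nat.card (G ⊓ Subgroup.centralizer ({v} : Set X) : Subgroup X) : ℝ)⁻¹ * ∑ h : (G ⊓ Subgroup.centralizer ({v} : Set X) : Subgroup X), Complex.normSq ((χ : X → ℂ) ((h : X) * v)) * f h := by
      intro χ
      apply Complex.ofReal_injective
      have h2 := Chars.classInner_eq_sum_mul_conj (isCycComb_isClassFunction (hη χ))
        (isCycComb_isClassFunction (hη χ))
      simp only [Complex.mul_conj] at h2
      rw [Complex.ofReal_sum, ← h2, classInner]
      push_cast
      congr 1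
      refine Finset.sum_congr rfl fun h _ => ?_
      rw [Complex.mul_conj]
      simp only [η, Pi.mul_apply, Complex.normSq_mul, hf, Complex.ofReal_mul, Complex.ofReal_natCast]
    rw [Fintype.sum_prod_type, Finset.sum_congr rfl fun χ _ => h1 χ, ← Finset.mul_sum,
      Finset.sum_comm]
    simp only [← Finset.sum_mul, sum_normSq_eq_card_centralizer]
    rw [Rat.cast_div, Rat.cast_natCast, Rat.cast_natCast, div_eq_inv_mul]
    congr 1
    simp only [T, Nat.cast_sum, Nat.cast_mul]
    refine Finset.sum_congr rfl fun h _ => ?_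
    rw [card_centralizer_mul V G hab hGV hcop v hv h, Nat.cast_mul]
    ring
  have hbound := card_le_sum_normSq_of_rational b hb hb0 _ hsum
  -- `∑ |C_C(h)| = k((G ⊓ Subgroup.centralizer ({v} : Set X) : Subgroup X)) |(G ⊓ Subgroup.centralizer ({v} : Set X) : Subgroup X)|`
  have hcl : ∑ h : (G ⊓ Subgroup.centralizer ({v} : Set X) : Subgroup X), Nat.card (Subgroup.centralizer ({h} : Set (G ⊓ Subgroup.centralizer ({v} : Set X) : Subgroup X)))
      = Nat.card (ConjClasses (G ⊓ Subgroup.centralizer ({v} : Set X) : Subgroup X)) * Nat.card (G ⊓ Subgroup.centralizer ({v} : Set X) : Subgroup X) := by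
    rw [← card_comm_eq_card_conjClasses_mul_card,
      Nat.card_congr (show {q : (G ⊓ Subgroup.centralizer ({v} : Set X) : Subgroup X) × (G ⊓ Subgroup.centralizer ({v} : Set X) : Subgroup X) // Commute q.1 q.2} ≃
          Σ h : (G ⊓ Subgroup.centralizer ({v} : Set X) : Subgroup X), Subgroup.centralizer ({h} : Set (G ⊓ Subgroup.centralizer ({v} : Set X) : Subgroup X)) from
        { toFun := fun q => ⟨q.1.2, q.1.1, Subgroup.mem_centralizer_singleton_iff.mpr q.2⟩
          invFun := fun q => ⟨(q.2, q.1), Subgroup.mem_centralizer_singleton_iff.mp q.2.2⟩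
          left_inv := fun q => rfl
          right_inv := fun q => rfl }), Nat.card_sigma]
  have hT : T ≤ Nat.card V * (Nat.card (ConjClasses (G ⊓ Subgroup.centralizer ({v} : Set X) : Subgroup X)) * Nat.card (G ⊓ Subgroup.centralizer ({v} : Set X) : Subgroup X)) := by
    rw [← hcl, Finset.mul_sum]
    refine Finset.sum_le_sum fun h _ => ?_
    rw [mul_left_comm, mul_comm (Nat.card V)]
    exact Nat.mul_le_mul_left _ (hle h)
  have hCpos : (0 : ℝ) < Nat.card (G ⊓ Subgroup.centralizer ({v} : Set X) : Subgroup X) := by exact_mod_cast Nat.card_pos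
  rw [Fintype.card_prod, ← Nat.card_eq_fintype_card, ← Nat.card_eq_fintype_card,
    Chars.card_irrCharacter, Chars.card_irrCharacter, Rat.cast_div, Rat.cast_natCast,
    Rat.cast_natCast, le_div_iff₀ hCpos] at hbound
  have hb2 : Nat.card (ConjClasses X) * Nat.card (ConjClasses (G ⊓ Subgroup.centralizer ({v} : Set X) : Subgroup X)) * Nat.card (G ⊓ Subgroup.centralizer ({v} : Set X) : Subgroup X)
      ≤ Nat.card V * (Nat.card (ConjClasses (G ⊓ Subgroup.centralizer ({v} : Set X) : Subgroup X)) * Nat.card (G ⊓ Subgroup.centralizer ({v} : Set X) : Subgroup X)) :=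
    le_trans (by exact_mod_cast hbound) hT
  rw [mul_assoc] at hb2
  exact Nat.le_of_mul_le_mul_right hb2 (Nat.mul_pos Nat.card_pos Nat.card_pos)

end

end Cfsg.Agent.Lib.KGV
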