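import Cfsg.Agent.Lib.KGV.Knorr

/-!
# The class function of Knörr for an abelian stabiliser: a product of Gauss sums
-/

set_option autoImplicit false

namespace Cfsg.Agent.Lib.KGV

open Cfsg.Agent.Lib Cfsg.Agent.Lib.Blocks
open scoped ComplexConjugate

universe u v

variable {R : Type v} [Field R] [Fintype R]

/-- Gauss sums of non-trivial characters are divisible by `p`-modular maximal ideals. -/
theorem memLocalIdeal_gaussSum {M : Ideal AlgInt} [M.IsPrime] {p : ℕ} (hM : IsPModular p M)
    (hp : ∀ x : R, p • x = 0) {χ : MulChar R ℂ} (hχ : χ ≠ 1) (e : AddChar R ℂ) :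
    MemLocalIdeal M (gaussSum χ e) := by
  classical
  have h0 : gaussSum χ e = ∑ x : R, χ x * (e x - 1) := by
    simp only [gaussSum, mul_sub, mul_one, Finset.sum_sub_distrib, MulChar.sum_eq_zero_of_ne_one hχ,
      sub_zero]
  rw [h0]
  refine memLocalIdeal_sum _ _ fun x _ => memLocalIdeal_mul_left ?_
    (memLocalIdeal_sub_one_of_pow_eq_one hM (k := 1) ?_)
  · by_cases hx : IsUnit x
    · obtain ⟨u, rfl⟩ := hx
      refine cycInt_memLocalRing (root_mem_cycInt (n := Fintype.card Rˣ) Fintype.card_pos ?_)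
      rw [← map_pow, ← Units.val_pow_eq_pow_val, pow_card_eq_one, Units.val_one, map_one]
    · rw [χ.map_nonunit hx]
      exact cycInt_memLocalRing (zero_mem _)
  · rw [pow_one, ← AddChar.map_nsmul_eq_pow, hp x, AddChar.map_zero_eq_one]

theorem normSq_gaussSum {χ : MulChar R ℂ} (hχ : χ ≠ 1) {e : AddChar R ℂ} (he : e.IsPrimitive) :
    Complex.normSq (gaussSum χ e) = Fintype.card R := by
  apply Complex.ofReal_injective
  rw [← Complex.mul_conj, Complex.ofReal_natCast, ← gaussSum_mul_gaussSum_eq_card hχ he]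
  congr 1
  simp only [gaussSum, map_sum, map_mul, AddChar.inv_apply, AddChar.map_neg_eq_conj]
  refine Finset.sum_congr rfl fun x _ => ?_
  rw [← MulChar.star_apply' χ x]
  rfl

variable {C : Type u} [Group C] [Finite C]

theorem isCycComb_gaussSum (Θ : C →* MulChar R ℂ) (e : AddChar R ℂ) :
    IsCycComb (fun h => -gaussSum (Θ h) e) := by
  classical
  have heq : (fun h => -gaussSum (Θ h) e)
      = ∑ x : R, (-(e x)) • fun h => (Θ h) x := by
    funext h
    simp [gaussSum, mul_comm]
  rw [heq]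
  refine isCycComb_sum _ fun x _ => isCycComb_smul ?_ ?_
  · refine neg_mem (root_mem_cycInt (n := Fintype.card R) Fintype.card_pos ?_)
    rw [← AddChar.map_nsmul_eq_pow, card_nsmul_eq_zero, AddChar.map_zero_eq_one]
  by_cases hx : IsUnit x
  · obtain ⟨u, rfl⟩ := hx
    let f : C →* ℂˣ :=
      { toFun := fun h => (Θ h).toUnitHom u
        map_one' := Units.ext (by simp [MulChar.coe_toUnitHom])
        map_mul' := fun a b => Units.ext (by simp [MulChar.coe_toUnitHom]) }
    have : (fun h => (Θ h) (u : R)) = fun h => (f h : ℂ) := funext fun h => by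
      simp [f, MulChar.coe_toUnitHom]
    rw [this]
    exact isCycComb_of_isCharacter (Chars.isCharacter_hom f)
  · have : (fun h => (Θ h) x) = (0 : C → ℂ) := funext fun h => (Θ h).map_nonunit hx
    rw [this]
    exact isCycComb_zero

/-- Data of one irreducible factor. -/
theorem exists_factor {M : Ideal AlgInt} [M.IsPrime] {p : ℕ} (hM : IsPModular p M)
    (hp : ∀ x : R, p • x = 0) (θ : C →* Rˣ) :
    ∃ (ψ : C → ℂ) (f : C → ℕ), IsCycComb ψ ∧ (∀ h, Complex.normSq (ψ h) = f h) ∧ ψ 1 = 1 ∧
      (∀ h, θ h ≠ 1 → MemLocalIdeal M (ψ h) ∧ f h = Fintype.card R) ∧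
      ∀ h, θ h = 1 → f h = 1 := by
  classical
  obtain ⟨ι⟩ := MulChar.mulEquiv_units R ℂ
  let e := AddChar.FiniteField.primitiveChar_to_Complex R
  have he := AddChar.FiniteField.primitiveChar_to_Complex_isPrimitive R
  have he1 : e ≠ 1 := fun h => by
    have := he one_ne_zero
    rw [show AddChar.FiniteField.primitiveChar_to_Complex R = e from rfl, h] at this
    exact this (by ext; simp [AddChar.mulShift])
  let Θ : C →* MulChar R ℂ := ι.symm.toMonoidHom.comp θ
  have hΘ : ∀ h, θ h = 1 → Θ h = 1 := fun h hh => by simp [Θ, hh]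
  have hΘ' : ∀ h, θ h ≠ 1 → Θ h ≠ 1 := fun h hh h1 => hh (by
    apply ι.symm.injective
    rw [map_one]
    exact h1)
  refine ⟨fun h => -gaussSum (Θ h) e, fun h => if θ h = 1 then 1 else Fintype.card R,
    isCycComb_gaussSum Θ e, fun h => ?_, ?_, fun h hh => ⟨?_, if_neg hh⟩, fun h hh => if_pos hh⟩
  · rw [Complex.normSq_neg]
    dsimp only
    split_ifs with hh
    · rw [hΘ h hh, gaussSum_one_left he1]; simp
    · exact normSq_gaussSum (hΘ' h hh) he
  · show -gaussSum (Θ 1) e = 1
    rw [hΘ 1 (map_one θ), gaussSum_one_left he1, neg_neg]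
  · exact memLocalIdeal_neg (memLocalIdeal_gaussSum hM hp (hΘ' h hh) e)

end Cfsg.Agent.Lib.KGV
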