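import Cfsg.Agent.Lib.KGV.Moved
import Cfsg.Agent.Lib.Blocks.LocalRing

/-!
# Gauss sums of the moved part as cyclotomic combinations
-/

set_option autoImplicit false

namespace Cfsg.Agent.Lib.KGV

open Cfsg.Agent.Lib Cfsg.Agent.Lib.Blocks
open scoped ComplexConjugate

universe u v

variable {p : ℕ} [hp : Fact p.Prime] {H : Type u} [Group H] [Finite H] {U : Type v}
  [AddCommGroup U] [Module (ZMod p) U] [Finite U]

/-- A function `ψ` with `|ψ h|² = |U : C_U(h)|`, a unit at `1` and `0` modulo `M` elsewhere. -/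
def HasPsi (ρ : Representation (ZMod p) H U) (M : Ideal AlgInt) : Prop :=
  ∃ ψ : H → ℂ, IsCycComb ψ ∧ ψ 1 = 1 ∧
    (∀ h, Complex.normSq (ψ h) = (Nat.card (movedPart ρ h) : ℝ)) ∧
    ∀ h, ρ h ≠ 1 → MemLocalIdeal M (ψ h)

theorem sum_eps_eq_zero {W : Type*} [AddCommGroup W] [Module (ZMod p) W] [Fintype W]
    {e : AddChar (ZMod p) ℂ} (he : ∀ a, a ≠ 0 → e a ≠ 1) {f : W →ₗ[ZMod p] ZMod p} (hf : f ≠ 0) :
    ∑ w, e (f w) = 0 := by
  refine AddChar.sum_eq_zero_of_ne_one (ψ := e.compAddMonoidHom f.toAddMonoidHom) ?_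
  intro h
  obtain ⟨w, hw⟩ : ∃ w, f w ≠ 0 := by
    by_contra! hw
    exact hf (LinearMap.ext hw)
  exact he _ hw (by simpa using DFunLike.congr_fun h w)

theorem normSq_gauss (W : Submodule (ZMod p) U) [Fintype W] (F : U → ℂ)
    {e : AddChar (ZMod p) ℂ} (he : ∀ a, a ≠ 0 → e a ≠ 1) {B : LinearMap.BilinForm (ZMod p) U}
    (hadd : ∀ u w, F (u + w) = F u * F w * e (B u w)) (hFp : ∀ u, F u ^ p = 1)
    (hnd : ∀ x ∈ W, (∀ y ∈ W, B x y = 0) → x = 0) :
    (∑ w : W, F w) * conj (∑ w : W, F w) = (Nat.card W : ℂ) := by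
  classical
  have hnorm : ∀ u, F u * conj (F u) = 1 := fun u => by
    rw [Complex.mul_conj, Complex.normSq_eq_norm_sq,
      Chars.norm_eq_one_of_pow_eq_one hp.out.pos (hFp u)]
    norm_num
  have hF0 : F 0 = 1 := by
    have h := hadd 0 0
    simp only [add_zero, map_zero, LinearMap.zero_apply, AddChar.map_zero_eq_one, mul_one] at h
    have hne : F 0 ≠ 0 := fun h0 => by simpa [h0] using hnorm 0
    exact (mul_left_eq_self₀.1 h.symm).resolve_right hne
  calc (∑ w : W, F w) * conj (∑ w : W, F w)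
      = ∑ w : W, ∑ t : W, F ((t : U) + w) * conj (F w) := by
        rw [map_sum, Finset.mul_sum]
        refine Finset.sum_congr rfl fun w _ => ?_
        rw [Finset.sum_mul]
        exact (Fintype.sum_equiv (Equiv.addRight w) _ _ fun t => rfl).symm
    _ = ∑ t : W, F t * ∑ w : W, e (B t w) := by
        rw [Finset.sum_comm]
        refine Finset.sum_congr rfl fun t _ => ?_
        rw [Finset.mul_sum]
        refine Finset.sum_congr rfl fun w _ => ?_
        rw [hadd]
        linear_combination (F t * e (B t w)) * hnorm w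
    _ = (Nat.card W : ℂ) := by
        rw [Finset.sum_eq_single (0 : W)]
        · simp [hF0, Nat.card_eq_fintype_card]
        · intro t _ ht
          refine mul_eq_zero_of_right _
            (sum_eps_eq_zero he (f := (B t).comp W.subtype) fun h0 => ht (Subtype.ext ?_))
          exact hnd t t.2 fun y hy => LinearMap.congr_fun h0 ⟨y, hy⟩
        · simp

theorem form_nondeg_part (hH : ¬ p ∣ Nat.card H) {ρ : Representation (ZMod p) H U}
    {B : LinearMap.BilinForm (ZMod p) U} (hBi : ∀ g x y, B (ρ g x) (ρ g y) = B x y)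
    (hnd : ∀ x, (∀ y, B x y = 0) → x = 0) (h : H) {x : U} (hx : x ∈ fixedPart ρ h)
    (h0 : ∀ y ∈ fixedPart ρ h, B x y = 0) : x = 0 :=
  hnd x fun y => by
    obtain ⟨a, ha, b, hb, rfl⟩ := Submodule.mem_sup.1
      ((isCompl_fixed_moved hH ρ h).sup_eq_top ▸ Submodule.mem_top (x := y))
    rw [map_add, h0 a ha, (form_fixed_moved hH hBi hx hb).1, add_zero]

theorem fixedPart_one (ρ : Representation (ZMod p) H U) : fixedPart ρ 1 = ⊤ :=
  eq_top_iff.2 fun x _ => mem_fixedPart.2 (by simp)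

theorem movedPart_one (hH : ¬ p ∣ Nat.card H) (ρ : Representation (ZMod p) H U) :
    movedPart ρ 1 = ⊥ := by
  have h := (isCompl_fixed_moved hH ρ 1).inf_eq_bot
  rwa [fixedPart_one, top_inf_eq] at h

theorem one_lt_card_moved (hH : ¬ p ∣ Nat.card H) (ρ : Representation (ZMod p) H U) {h : H}
    (hh : ρ h ≠ 1) : ∃ k : ℕ, Nat.card (movedPart ρ h) = p ^ (k + 1) := by
  have hne : movedPart ρ h ≠ ⊥ := fun h0 => hh (LinearMap.ext fun x => by
    have h1 := (isCompl_fixed_moved hH ρ h).sup_eq_top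
    rw [h0, sup_bot_eq] at h1
    exact mem_fixedPart.1 (h1 ▸ Submodule.mem_top))
  have hpos : 0 < Module.finrank (ZMod p) (movedPart ρ h) := Nat.pos_of_ne_zero fun h0 =>
    hne (Submodule.finrank_eq_zero.1 h0)
  exact ⟨Module.finrank (ZMod p) (movedPart ρ h) - 1, by
    rw [Nat.sub_add_cancel hpos, Module.natCard_eq_pow_finrank (K := ZMod p), Nat.card_zmod]⟩

theorem isCycComb_gauss (ρ : Representation (ZMod p) H U) (F : U → ℂ) {m : ℕ} (hm : 0 < m)
    (hFm : ∀ u, F u ^ m = 1) (hFi : ∀ g u, F (ρ g u) = F u)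
    [∀ h, Fintype (fixedPart ρ h)] :
    IsCycComb (fun h => ∑ u : fixedPart ρ h, F u) := by
  classical
  cases nonempty_fintype U
  let act : ∀ t : ℂ, MulAction H {u : U // F u = t} := fun t =>
    { smul := fun g x => ⟨ρ g x.1, (hFi g x.1).trans x.2⟩
      one_smul := fun x => Subtype.ext (show ρ 1 x.1 = x.1 by simp)
      mul_smul := fun a b x => Subtype.ext (show ρ (a * b) x.1 = ρ a (ρ b x.1) by simp) }
  have e : (fun h => ∑ u : fixedPart ρ h, F u) =
      ∑ t ∈ Finset.univ.image F, t • fun h : H =>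
        (Nat.card (@MulAction.fixedBy H {u : U // F u = t} _ (act t) h) : ℂ) := by
    funext h
    rw [Finset.sum_apply,
      ← Finset.sum_subtype (Finset.univ.filter fun u => ρ h u = u) (fun u => by simp [mem_fixedPart]) F,
      ← Finset.sum_fiberwise_of_maps_to (g := F) (t := Finset.univ.image F)
        (fun u _ => Finset.mem_image_of_mem F (Finset.mem_univ u))]
    refine Finset.sum_congr rfl fun t _ => ?_
    rw [Finset.sum_congr rfl (g := fun _ => t) fun u hu => (Finset.mem_filter.1 hu).2,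
      Finset.sum_const, nsmul_eq_mul, Pi.smul_apply, smul_eq_mul, mul_comm t]
    congr 2
    rw [Finset.filter_filter, ← Fintype.card_subtype, ← Nat.card_eq_fintype_card]
    exact Nat.card_congr
      { toFun := fun u => ⟨⟨u.1, u.2.2⟩, Subtype.ext u.2.1⟩
        invFun := fun u => ⟨u.1.1, congrArg Subtype.val u.2, u.1.2⟩
        left_inv := fun u => rfl
        right_inv := fun u => rfl }
  rw [e]
  refine isCycComb_sum _ fun t ht => isCycComb_smul ?_ ?_
  · obtain ⟨u, -, rfl⟩ := Finset.mem_image.1 ht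
    exact root_mem_cycInt hm (hFm u)
  · exact isCycComb_of_isCharacter (@Chars.isCharacter_permChar H _ _ _ (act t) _)

/-- The Gauss sums of the moved parts. -/
theorem hasPsi_gauss (hH : ¬ p ∣ Nat.card H) {M : Ideal AlgInt} (hM : IsPModular p M)
    (ρ : Representation (ZMod p) H U) (F : U → ℂ) {e : AddChar (ZMod p) ℂ}
    (he : ∀ a, a ≠ 0 → e a ≠ 1) (B : LinearMap.BilinForm (ZMod p) U)
    (hBi : ∀ g x y, B (ρ g x) (ρ g y) = B x y) (hnd : ∀ x, (∀ y, B x y = 0) → x = 0)
    (hFp : ∀ u, F u ^ p = 1) (hadd : ∀ u w, F (u + w) = F u * F w * e (B u w))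
    (hFi : ∀ g u, F (ρ g u) = F u) : HasPsi ρ M := by
  classical
  cases nonempty_fintype U
  have : M.IsPrime := isPModular_isPrime hM
  let ψ : H → ℂ := fun h => ∑ u : movedPart ρ h, F u
  let π : H → ℂ := fun h => ∑ u : fixedPart ρ h, F u
  let G₀ : ℂ := ∑ u, F u
  have hπ : ∀ h, π h * conj (π h) = (Nat.card (fixedPart ρ h) : ℂ) := fun h =>
    normSq_gauss _ F he hadd hFp fun x hx => form_nondeg_part hH hBi hnd h hx
  have hψn : ∀ h, ψ h * conj (ψ h) = (Nat.card (movedPart ρ h) : ℂ) := fun h =>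
    normSq_gauss _ F he hadd hFp fun x hx h0 => hnd x fun y => by
      obtain ⟨a, ha, b, hb, rfl⟩ := Submodule.mem_sup.1
        ((isCompl_fixed_moved hH ρ h).sup_eq_top ▸ Submodule.mem_top (x := y))
      rw [map_add, h0 b hb, (form_fixed_moved hH hBi ha hx).2, zero_add]
  have hsplit : ∀ h, π h * ψ h = G₀ := fun h => by
    simp only [π, ψ, G₀]
    rw [← Fintype.sum_equiv
      (Submodule.prodEquivOfIsCompl _ _ (isCompl_fixed_moved hH ρ h)).toEquiv
      (fun q => F ((q.1 : U) + q.2)) F (fun q => by simp [Submodule.coe_prodEquivOfIsCompl]),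
      Fintype.sum_prod_type, Finset.sum_mul_sum]
    refine Finset.sum_congr rfl fun a _ => Finset.sum_congr rfl fun b _ => ?_
    rw [hadd, (form_fixed_moved hH hBi a.2 b.2).1, AddChar.map_zero_eq_one, mul_one]
  have hdiv : ∀ h, ψ h = G₀ * conj (π h) / (Nat.card (fixedPart ρ h) : ℂ) := fun h => by
    rw [eq_div_iff (Nat.cast_ne_zero.2 Nat.card_pos.ne'), ← hπ h, ← hsplit h]
    ring
  have hψv : ∀ h, ψ h ∈ cycInt := fun h => sum_mem fun u _ => root_mem_cycInt hp.out.pos (hFp u)
  have hG : G₀ ∈ cycInt := sum_mem fun u _ => root_mem_cycInt hp.out.pos (hFp u)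
  have hconjπ : IsCycComb (fun h => conj (π h)) := by
    have := isCycComb_gauss ρ (fun u => conj (F u)) hp.out.pos
      (fun u => by rw [← map_pow, hFp, map_one]) (fun g u => by rw [hFi])
    simpa only [π, map_sum] using this
  obtain ⟨N, hN⟩ := exists_isCycComb_pow_div ρ
  have hpsi : IsCycComb (fun h => ((p : ℂ) ^ N) * ψ h) := by
    have h1 := isCycComb_smul hG (isCycComb_mul hN hconjπ)
    refine (show (fun h => ((p : ℂ) ^ N) * ψ h) = _ from funext fun h => ?_) ▸ h1
    rw [Pi.smul_apply, Pi.mul_apply, smul_eq_mul, hdiv]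
    ring
  have hcl : IsClassFunction H ψ := by
    intro h k
    simp only [hdiv]
    have h1 := isCycComb_isClassFunction hconjπ h k
    have h2 := isCycComb_isClassFunction (isCycComb_card_fixed ρ) h k
    try simp only at h1 h2
    rw [h1, h2]
  refine ⟨ψ, isCycComb_of_pow_mul hH hcl hψv hpsi, ?_, fun h => ?_, fun h hh => ?_⟩
  · simp only [ψ]
    rw [Finset.sum_eq_single (0 : movedPart ρ 1)]
    · have hF : F 0 = F 0 * F 0 * 1 := by simpa using hadd 0 0
      have hne : F 0 ≠ 0 := fun h0 => by simpa [h0, hp.out.ne_zero] using hFp 0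
      exact mul_left_cancel₀ hne (by rw [mul_one] at hF ⊢; exact hF.symm)
    · intro b _ hb
      exact absurd (Subtype.ext ((Submodule.eq_bot_iff _).1 (movedPart_one hH ρ) b b.2)) hb
    · simp
  · apply Complex.ofReal_injective
    rw [← Complex.mul_conj, hψn, Complex.ofReal_natCast]
  · obtain ⟨k, hk⟩ := one_lt_card_moved hH ρ hh
    have e1 : ψ h = ∑ u : movedPart ρ h, (F u - 1) + (Nat.card (movedPart ρ h) : ℂ) := by
      simp only [ψ, Finset.sum_sub_distrib, Finset.sum_const, Finset.card_univ,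
        Nat.card_eq_fintype_card, nsmul_eq_mul, mul_one, sub_add_cancel]
    rw [e1]
    refine memLocalIdeal_add (memLocalIdeal_sum _ _ fun u _ =>
      memLocalIdeal_sub_one_of_pow_eq_one hM (k := 1) (by rw [pow_one]; exact hFp _)) ?_
    rw [memLocalIdeal_natCast_iff hM, hk]
    exact dvd_pow_self p (Nat.succ_ne_zero k)

end Cfsg.Agent.Lib.KGV
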