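import Cfsg.Agent.Lib.KGV.GaussPsi
import Cfsg.Agent.Lib.Chars.Completeness
import Cfsg.Agent.Lib.Clifford.Basic

/-!
# The Weil representation of a coprime group of symplectic automorphisms, odd p
-/

set_option autoImplicit false

namespace Cfsg.Agent.Lib.KGV

open Cfsg.Agent.Lib Cfsg.Agent.Lib.Blocks
open scoped ComplexConjugate

universe u v

variable {p : ℕ} {U : Type v} [AddCommGroup U] [Module (ZMod p) U]

/-- The Heisenberg group of an alternating form. -/
@[ext] structure Heis (A : LinearMap.BilinForm (ZMod p) U) (hA : A.IsAlt) where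
  /-- vector part -/
  v : U
  /-- central part -/
  s : ZMod p

namespace Heis

variable {A : LinearMap.BilinForm (ZMod p) U} {hA : A.IsAlt}

instance : One (Heis A hA) := ⟨⟨0, 0⟩⟩
instance : Mul (Heis A hA) := ⟨fun x y => ⟨x.v + y.v, x.s + y.s + 2⁻¹ * A x.v y.v⟩⟩
instance : Inv (Heis A hA) := ⟨fun x => ⟨-x.v, -x.s⟩⟩

theorem one_v : (1 : Heis A hA).v = 0 := rfl
theorem one_s : (1 : Heis A hA).s = 0 := rfl
theorem mul_v (x y : Heis A hA) : (x * y).v = x.v + y.v := rfl
theorem mul_s (x y : Heis A hA) : (x * y).s = x.s + y.s + 2⁻¹ * A x.v y.v := rfl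
theorem inv_v (x : Heis A hA) : x⁻¹.v = -x.v := rfl
theorem inv_s (x : Heis A hA) : x⁻¹.s = -x.s := rfl

instance : Group (Heis A hA) :=
  Group.ofLeftAxioms
    (fun a b c => Heis.ext (by simp only [mul_v, add_assoc]) (by
      simp only [mul_v, mul_s, map_add, LinearMap.add_apply]; ring))
    (fun a => Heis.ext (by simp [mul_v, one_v]) (by simp [mul_s, one_v, one_s]))
    (fun a => Heis.ext (by simp [mul_v, inv_v, one_v])
      (by simp [mul_s, inv_v, inv_s, one_s, hA a.v]))

/-- `Heis A hA` as a product. -/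
def equivProd (A : LinearMap.BilinForm (ZMod p) U) (hA : A.IsAlt) : Heis A hA ≃ U × ZMod p where
  toFun x := (x.v, x.s)
  invFun q := ⟨q.1, q.2⟩
  left_inv _ := rfl
  right_inv _ := rfl

end Heis

/-- A Schrödinger system: a projective representation of `U` of dimension `√|U|`. -/
structure Schroedinger (A : LinearMap.BilinForm (ZMod p) U) (hA : A.IsAlt) [NeZero p] where
  /-- the dimension -/
  d : ℕ
  /-- the representation of the Heisenberg group -/
  rep : Representation ℂ (Heis A hA) (Fin d → ℂ)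
  /-- the central character -/
  e : AddChar (ZMod p) ℂ
  irr : rep.IsIrreducible
  e_ne : ∀ a, a ≠ 0 → e a ≠ 1
  dd : d * d = Nat.card U
  rep_centre : ∀ s, rep ⟨0, s⟩ = e s • 1
  char_off : ∀ x : Heis A hA, x.v ≠ 0 → rep.character x = 0

namespace Schroedinger

variable [hp : Fact p.Prime] {A : LinearMap.BilinForm (ZMod p) U} {hA : A.IsAlt}
  (S : Schroedinger A hA)

/-- The projective representation of `U`. -/
noncomputable def π (u : U) : Module.End ℂ (Fin S.d → ℂ) := S.rep ⟨u, 0⟩

theorem π_zero : S.π 0 = 1 := map_one S.rep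

theorem π_mul (u w : U) : S.π u * S.π w = S.e (2⁻¹ * A u w) • S.π (u + w) := by
  have e1 : (⟨u, 0⟩ : Heis A hA) * ⟨w, 0⟩ = ⟨0, 2⁻¹ * A u w⟩ * ⟨u + w, 0⟩ :=
    Heis.ext (by simp [Heis.mul_v]) (by simp [Heis.mul_s])
  rw [π, π, π, ← map_mul, e1, map_mul, S.rep_centre, smul_one_mul]

theorem π_comm (hodd : (2 : ZMod p) ≠ 0) (u w : U) : S.π u * S.π w = S.e (A u w) • (S.π w * S.π u) := by
  rw [π_mul, π_mul, smul_smul, ← AddChar.map_add_eq_mul, add_comm u w]
  congr 2
  rw [← LinearMap.IsAlt.neg hA u w]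
  field_simp
  ring

theorem trace_π {u : U} (hu : u ≠ 0) : LinearMap.trace ℂ _ (S.π u) = 0 := S.char_off ⟨u, 0⟩ hu

theorem trace_one : LinearMap.trace ℂ _ (1 : Module.End ℂ (Fin S.d → ℂ)) = (S.d : ℂ) := by
  rw [LinearMap.trace_one, Module.finrank_fin_fun]

theorem π_neg_mul (u : U) : S.π (-u) * S.π u = 1 := by
  rw [π_mul, neg_add_cancel, π_zero, map_neg, LinearMap.neg_apply, hA u, neg_zero, mul_zero,
    AddChar.map_zero_eq_one, one_smul]

theorem π_mul_neg (u : U) : S.π u * S.π (-u) = 1 := by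
  simpa using S.π_neg_mul (-u)

theorem d_pos : 0 < S.d := by
  rcases Nat.eq_zero_or_pos S.d with h | h
  · exfalso
    have := Chars.nontrivial_of_isIrreducible S.rep (hρ := S.irr) |> fun h' => h'
    rw [h] at this
    exact not_subsingleton (Fin 0 → ℂ) inferInstance
  · exact h

end Schroedinger

/-- Existence of the Schrödinger system. -/
theorem exists_schroedinger [hp : Fact p.Prime] [Finite U] (A : LinearMap.BilinForm (ZMod p) U)
    (hA : A.IsAlt) (hnd : ∀ x, (∀ y, A x y = 0) → x = 0) (hodd : (2 : ZMod p) ≠ 0) :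
    Nonempty (Schroedinger A hA) := by
  classical
  have : Finite (Heis A hA) := Finite.of_equiv _ (Heis.equivProd A hA).symm
  cases nonempty_fintype (Heis A hA)
  cases nonempty_fintype U
  set z : Heis A hA := ⟨0, 1⟩ with hz
  have hzc : ∀ x : Heis A hA, z * x = x * z := fun x =>
    Heis.ext (by simp [Heis.mul_v, hz]) (by simp [Heis.mul_s, hz, add_comm])
  have hz1 : z ≠ 1 := fun h => one_ne_zero (congrArg Heis.s h)
  have hcent : ∀ x : Heis A hA, x.v = 0 → ∀ y, x * y = y * x := fun x hx y =>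
    Heis.ext (by simp [Heis.mul_v, hx]) (by simp [Heis.mul_s, hx, add_comm])
  obtain ⟨χ, hχ⟩ : ∃ χ : IrrCharacter (Heis A hA), (χ : Heis A hA → ℂ) z ≠ (χ : Heis A hA → ℂ) 1 := by
    by_contra! h
    obtain ⟨c, hc⟩ := isConj_iff.1 (Chars.isConj_iff_irr.2 h)
    rw [← hzc c, mul_inv_cancel_right] at hc
    exact hz1 hc
  obtain ⟨d, ρ, hirr, hρχ⟩ := χ.2
  have : ρ.IsIrreducible := hirr
  have hscal : ∀ s : ZMod p, ∃ c : ℂ, ρ ⟨0, s⟩ = c • 1 := fun s =>
    Clifford.schur_scalar ρ _ fun g => by rw [← map_mul, ← map_mul, hcent ⟨0, s⟩ rfl g]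
  obtain ⟨ω, hω⟩ := hscal 1
  have hd0 : 0 < d := by
    rcases Nat.eq_zero_or_pos d with h | h
    · subst h
      exfalso
      have := Chars.irr_apply_one_ne_zero χ
      rw [← hρχ, Representation.char_one] at this
      simp at this
    · exact h
  have hone : (1 : Module.End ℂ (Fin d → ℂ)) ≠ 0 := fun h0 => by
    have := congrArg (LinearMap.trace ℂ _) h0
    rw [LinearMap.trace_one, map_zero, Module.finrank_fin_fun] at this
    exact hd0.ne' (by exact_mod_cast this)
  have hpow : ∀ k : ℕ, ρ ⟨0, (k : ZMod p)⟩ = ω ^ k • 1 := by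
    intro k
    induction k with
    | zero =>
      rw [Nat.cast_zero, pow_zero, one_smul]
      exact map_one ρ
    | succ k ih =>
      have e1 : (⟨0, ((k + 1 : ℕ) : ZMod p)⟩ : Heis A hA) = ⟨0, (k : ZMod p)⟩ * ⟨0, 1⟩ :=
        Heis.ext (by simp [Heis.mul_v]) (by simp [Heis.mul_s])
      rw [e1, map_mul, ih, hω, smul_mul_smul_comm, one_mul, pow_succ]
  have hωp : ω ^ p = 1 := by
    have h := hpow p
    rw [ZMod.natCast_self] at h
    have h1 : (1 : Module.End ℂ (Fin d → ℂ)) = ω ^ p • 1 := (map_one ρ).symm.trans h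
    have h2 := congrArg (LinearMap.trace ℂ _) h1
    rw [map_smul, LinearMap.trace_one, Module.finrank_fin_fun, smul_eq_mul] at h2
    exact (mul_eq_right₀ (Nat.cast_ne_zero.2 hd0.ne')).1 h2.symm
  set e : AddChar (ZMod p) ℂ := AddChar.zmodChar p hωp
  have hcentre : ∀ s, ρ ⟨0, s⟩ = e s • 1 := fun s => by
    rw [AddChar.zmodChar_apply]
    conv_lhs => rw [← ZMod.natCast_zmod_val s]
    exact hpow s.val
  have hω1 : ω ≠ 1 := by
    rintro rfl
    refine hχ ?_
    rw [← hρχ, Representation.character, Representation.character, hω, one_smul, map_one ρ]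
  have hene : ∀ a, a ≠ 0 → e a ≠ 1 := by
    intro a ha h
    rw [AddChar.zmodChar_apply] at h
    have h1 := orderOf_dvd_of_pow_eq_one h
    rw [orderOf_eq_prime hωp hω1] at h1
    have h2 := Nat.le_of_dvd (Nat.pos_of_ne_zero fun h0 => ha ((ZMod.val_eq_zero a).1 h0)) h1
    exact absurd (ZMod.val_lt a) (not_lt.2 h2)
  have hoff : ∀ x : Heis A hA, x.v ≠ 0 → ρ.character x = 0 := by
    intro x hx
    obtain ⟨w, hw⟩ : ∃ w, A w x.v ≠ 0 := by
      by_contra! h
      refine hx (hnd x.v fun y => ?_)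
      rw [← LinearMap.IsAlt.neg hA y x.v, h y, neg_zero]
    set y : Heis A hA := ⟨w, 0⟩
    have e1 : y * x * y⁻¹ = ⟨0, A w x.v⟩ * x := by
      refine mul_inv_eq_of_eq_mul (Heis.ext ?_ ?_)
      · simp [Heis.mul_v, y, add_comm]
      · simp only [Heis.mul_s, Heis.mul_v, y, zero_add, map_zero, LinearMap.zero_apply, mul_zero,
          add_zero]
        rw [← LinearMap.IsAlt.neg hA w x.v]
        field_simp
        ring
    have e2 : ρ.character (y * x * y⁻¹) = ρ.character x := Representation.char_conj ρ x y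
    have e3 : ρ.character (y * x * y⁻¹) = e (A w x.v) * ρ.character x := by
      rw [e1, Representation.character, Representation.character, map_mul, hcentre, smul_one_mul,
        map_smul, smul_eq_mul]
    rw [e2] at e3
    have e4 : (e (A w x.v) - 1) * ρ.character x = 0 := by linear_combination -e3
    exact (mul_eq_zero.1 e4).resolve_left (sub_ne_zero.2 (hene _ hw))
  refine ⟨⟨d, ρ, e, hirr, hene, ?_, hcentre, hoff⟩⟩
  have h1 := Chars.classInner_self_of_irreducible ρ
  rw [classInner, inv_mul_eq_iff_eq_mul₀ Chars.natCard_ne_zero, mul_one,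
    ← (Heis.equivProd A hA).symm.sum_comp, Fintype.sum_prod_type,
    Finset.sum_eq_single (0 : U)] at h1
  · have h2 : ∀ s : ZMod p, ρ.character ((Heis.equivProd A hA).symm (0, s)) *
        conj (ρ.character ((Heis.equivProd A hA).symm (0, s))) = ((d * d : ℕ) : ℂ) := by
      intro s
      change ρ.character ⟨0, s⟩ * conj (ρ.character ⟨0, s⟩) = _
      rw [Representation.character, hcentre, map_smul, LinearMap.trace_one, Module.finrank_fin_fun,
        smul_eq_mul, map_mul, Complex.conj_natCast, mul_mul_mul_comm, Complex.mul_conj,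
        Complex.normSq_eq_norm_sq,
        Chars.norm_eq_one_of_pow_eq_one hp.out.pos (show e s ^ p = 1 by
          rw [← AddChar.map_nsmul_eq_pow, nsmul_eq_mul, ZMod.natCast_self, zero_mul,
            AddChar.map_zero_eq_one])]
      push_cast
      ring
    rw [Finset.sum_congr rfl fun s _ => h2 s, Finset.sum_const, Finset.card_univ, ZMod.card,
      Nat.card_congr (Heis.equivProd A hA), Nat.card_prod, Nat.card_zmod, nsmul_eq_mul] at h1
    have h3 : p * (d * d) = p * Nat.card U := by
      rw [mul_comm p (Nat.card U)]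
      exact_mod_cast h1
    exact Nat.eq_of_mul_eq_mul_left hp.out.pos h3
  · intro u _ hu
    refine Finset.sum_eq_zero fun s _ => ?_
    rw [hoff _ hu, zero_mul]
  · simp

end Cfsg.Agent.Lib.KGV
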