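import Cfsg.Agent.Lib.KGV.CycComb
import Cfsg.Agent.Lib.Chars.Completeness

/-!
# Fixed and moved parts of a coprime module, and integrality of class functions on p'-groups
-/

set_option autoImplicit false

namespace Cfsg.Agent.Lib.KGV

open Cfsg.Agent.Lib
open scoped ComplexConjugate

universe u v

variable {p : ℕ} [hp : Fact p.Prime] {H : Type u} [Group H] [Finite H] {U : Type v}
  [AddCommGroup U] [Module (ZMod p) U]

/-- The average of the powers of `ρ h`. -/
noncomputable def avgMap (ρ : Representation (ZMod p) H U) (h : H) : U →ₗ[ZMod p] U :=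
  (orderOf h : ZMod p)⁻¹ • ∑ i ∈ Finset.range (orderOf h), ρ (h ^ i)

/-- The fixed points of `h`. -/
noncomputable def fixedPart (ρ : Representation (ZMod p) H U) (h : H) : Submodule (ZMod p) U :=
  LinearMap.ker (ρ h - 1)

/-- The part moved by `h`. -/
noncomputable def movedPart (ρ : Representation (ZMod p) H U) (h : H) : Submodule (ZMod p) U :=
  LinearMap.ker (avgMap ρ h)

variable {ρ : Representation (ZMod p) H U}

theorem mem_fixedPart {h : H} {x : U} : x ∈ fixedPart ρ h ↔ ρ h x = x := by
  simp [fixedPart, LinearMap.mem_ker, sub_eq_zero]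

theorem rho_pow_fixed {h : H} {x : U} (hx : ρ h x = x) (i : ℕ) : ρ (h ^ i) x = x := by
  induction i with
  | zero => simp
  | succ i ih => rw [pow_succ, map_mul, Module.End.mul_apply, hx, ih]

theorem orderOf_cast_ne_zero (hH : ¬ p ∣ Nat.card H) (h : H) : (orderOf h : ZMod p) ≠ 0 := by
  rw [Ne, ZMod.natCast_eq_zero_iff]
  exact fun hd => hH (hd.trans (orderOf_dvd_natCard h))

theorem avgMap_apply (h : H) (x : U) :
    avgMap ρ h x = (orderOf h : ZMod p)⁻¹ • ∑ i ∈ Finset.range (orderOf h), ρ (h ^ i) x := by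
  simp [avgMap, LinearMap.smul_apply, LinearMap.coe_sum, Finset.sum_apply]

theorem avgMap_of_fixed (hH : ¬ p ∣ Nat.card H) {h : H} {x : U} (hx : ρ h x = x) :
    avgMap ρ h x = x := by
  rw [avgMap_apply, Finset.sum_congr rfl (g := fun _ => x) fun i _ => rho_pow_fixed hx i,
    Finset.sum_const, Finset.card_range, ← Nat.cast_smul_eq_nsmul (ZMod p), smul_smul,
    inv_mul_cancel₀ (orderOf_cast_ne_zero hH h), one_smul]

theorem rho_avgMap (h : H) (x : U) : ρ h (avgMap ρ h x) = avgMap ρ h x := by
  rw [avgMap_apply, map_smul, map_sum]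
  congr 1
  simp only [← Module.End.mul_apply, ← map_mul, ← pow_succ']
  have h1 := Finset.sum_range_succ' (fun i => ρ (h ^ i) x) (orderOf h)
  have h2 := Finset.sum_range_succ (fun i => ρ (h ^ i) x) (orderOf h)
  rw [h2, pow_orderOf_eq_one, ← pow_zero h] at h1
  exact (add_right_cancel h1).symm

theorem isCompl_fixed_moved (hH : ¬ p ∣ Nat.card H) (ρ : Representation (ZMod p) H U) (h : H) :
    IsCompl (fixedPart ρ h) (movedPart ρ h) := by
  refine ⟨Submodule.disjoint_def.2 fun x hx hx' => ?_, ?_⟩
  · rw [← avgMap_of_fixed hH (mem_fixedPart.1 hx)]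
    exact hx'
  · rw [codisjoint_iff, eq_top_iff]
    intro x _
    refine Submodule.mem_sup.2 ⟨avgMap ρ h x, mem_fixedPart.2 (rho_avgMap h x), x - avgMap ρ h x,
      ?_, add_sub_cancel _ _⟩
    rw [movedPart, LinearMap.mem_ker, map_sub, avgMap_of_fixed hH (rho_avgMap h x), sub_self]

theorem card_fixed_mul_moved [Finite U] (hH : ¬ p ∣ Nat.card H)
    (ρ : Representation (ZMod p) H U) (h : H) :
    Nat.card (fixedPart ρ h) * Nat.card (movedPart ρ h) = Nat.card U := by
  rw [← Nat.card_prod]
  exact Nat.card_congr (Submodule.prodEquivOfIsCompl _ _ (isCompl_fixed_moved hH ρ h)).toEquiv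

/-- An invariant form pairs fixed and moved parts to zero. -/
theorem form_fixed_moved (hH : ¬ p ∣ Nat.card H) {B : LinearMap.BilinForm (ZMod p) U}
    (hBi : ∀ g x y, B (ρ g x) (ρ g y) = B x y) {h : H} {c d : U} (hc : c ∈ fixedPart ρ h)
    (hd : d ∈ movedPart ρ h) : B c d = 0 ∧ B d c = 0 := by
  have h1 : ∀ i, ρ (h ^ i) c = c := rho_pow_fixed (mem_fixedPart.1 hc)
  have h2 : ∀ i, B c (ρ (h ^ i) d) = B c d := fun i => by
    conv_lhs => rw [← h1 i]
    exact hBi _ c d
  have h3 : ∀ i, B (ρ (h ^ i) d) c = B d c := fun i => by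
    conv_lhs => rw [← h1 i]
    exact hBi _ d c
  constructor
  · have h4 : B c (avgMap ρ h d) = B c d := by
      rw [avgMap_apply, map_smul, map_sum, Finset.sum_congr rfl (g := fun _ => B c d) fun i _ => h2 i,
        Finset.sum_const, Finset.card_range, nsmul_eq_mul, smul_eq_mul,
        inv_mul_cancel_left₀ (orderOf_cast_ne_zero hH h)]
    rw [← h4, LinearMap.mem_ker.1 hd, map_zero]
  · have h4 : B (avgMap ρ h d) c = B d c := by
      rw [avgMap_apply, map_smul, map_sum, LinearMap.smul_apply, LinearMap.coe_sum, Finset.sum_apply,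
        Finset.sum_congr rfl (g := fun _ => B d c) fun i _ => h3 i,
        Finset.sum_const, Finset.card_range, nsmul_eq_mul, smul_eq_mul,
        inv_mul_cancel_left₀ (orderOf_cast_ne_zero hH h)]
    rw [← h4, LinearMap.mem_ker.1 hd, map_zero, LinearMap.zero_apply]

theorem fixedPart_conj (h k : H) (x : U) :
    x ∈ fixedPart ρ (k * h * k⁻¹) ↔ ρ k⁻¹ x ∈ fixedPart ρ h := by
  rw [mem_fixedPart, mem_fixedPart]
  constructor
  · intro hx
    calc ρ h (ρ k⁻¹ x) = ρ k⁻¹ (ρ (k * h * k⁻¹) x) := by
          simp only [← Module.End.mul_apply, ← map_mul]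
          congr 2
          group
      _ = ρ k⁻¹ x := by rw [hx]
  · intro hx
    calc ρ (k * h * k⁻¹) x = ρ k (ρ h (ρ k⁻¹ x)) := by
          simp only [← Module.End.mul_apply, ← map_mul]
          congr 2
          group
      _ = x := by
          rw [hx, ← Module.End.mul_apply, ← map_mul, mul_inv_cancel, map_one, Module.End.one_apply]

/-- A class function with cyclotomic-integer values some `p`-power multiple of which is a
cyclotomic combination is one itself. -/
theorem isCycComb_of_pow_mul (hH : ¬ p ∣ Nat.card H) {φ : H → ℂ} (hcl : IsClassFunction H φ)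
    (hv : ∀ h, φ h ∈ cycInt) {N : ℕ} (hN : IsCycComb (fun h => ((p : ℂ) ^ N) * φ h)) :
    IsCycComb φ := by
  cases nonempty_fintype H
  refine ⟨fun θ => classInner φ (θ : H → ℂ), fun θ => ?_,
    Chars.isClassFunction_eq_sum_classInner hcl⟩
  have h1 : (Nat.card H : ℂ) * classInner φ (θ : H → ℂ) ∈ cycInt := by
    rw [classInner, mul_inv_cancel_left₀ Chars.natCard_ne_zero]
    exact sum_mem fun h _ => mul_mem (hv h)
      (conj_mem_cycInt (char_mem_cycInt (Chars.irr_isCharacter θ) h))
  have h2 : ((p : ℂ) ^ N) * classInner φ (θ : H → ℂ) ∈ cycInt := by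
    have := isCycComb_classInner_mem hN θ
    rwa [show (fun h => ((p : ℂ) ^ N) * φ h) = ((p : ℂ) ^ N) • φ from rfl,
      Chars.classInner_smul_left] at this
  obtain ⟨a, b, hab⟩ : ∃ a b : ℤ, a * (Nat.card H : ℤ) + b * ((p : ℤ) ^ N) = 1 := by
    have hcop : IsCoprime (Nat.card H : ℤ) ((p : ℤ) ^ N) := by
      refine IsCoprime.pow_right ?_
      rw [Int.isCoprime_iff_nat_coprime]
      simpa using (hp.out.coprime_iff_not_dvd.2 hH).symm
    exact hcop
  have e : classInner φ (θ : H → ℂ) = (a : ℂ) * ((Nat.card H : ℂ) * classInner φ (θ : H → ℂ)) +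
      (b : ℂ) * (((p : ℂ) ^ N) * classInner φ (θ : H → ℂ)) := by
    have : ((a : ℂ) * (Nat.card H : ℂ) + (b : ℂ) * (p : ℂ) ^ N) = 1 := by exact_mod_cast hab
    linear_combination (-(classInner φ (θ : H → ℂ))) * this
  show classInner φ (θ : H → ℂ) ∈ cycInt
  rw [e]
  exact add_mem (mul_mem (intCast_mem cycInt a) h1) (mul_mem (intCast_mem cycInt b) h2)

/-- The permutation character on the fixed points. -/
theorem isCycComb_card_fixed [Finite U] (ρ : Representation (ZMod p) H U) :
    IsCycComb (fun h => (Nat.card (fixedPart ρ h) : ℂ)) := by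
  let act : MulAction H U :=
    { smul := fun h x => ρ h x
      one_smul := fun x => show ρ 1 x = x by simp
      mul_smul := fun a b x => show ρ (a * b) x = ρ a (ρ b x) by simp }
  have e : ∀ h, Nat.card (fixedPart ρ h) = Nat.card (MulAction.fixedBy U h) := fun h =>
    Nat.card_congr (Equiv.subtypeEquivRight fun x => mem_fixedPart)
  simp only [e]
  exact isCycComb_of_isCharacter (Chars.isCharacter_permChar U)

/-- Some `p`-power over the number of fixed points is a cyclotomic combination. -/
theorem exists_isCycComb_pow_div [Finite U] (ρ : Representation (ZMod p) H U) :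
    ∃ N : ℕ, IsCycComb (fun h => (p : ℂ) ^ N / (Nat.card (fixedPart ρ h) : ℂ)) := by
  classical
  set n := Module.finrank (ZMod p) U
  set x : H → ℂ := fun h => (Nat.card (fixedPart ρ h) : ℂ) with hx
  set P : Polynomial ℤ :=
    ∏ j ∈ Finset.range (n + 1), (Polynomial.X - Polynomial.C ((p : ℤ) ^ j)) with hP
  have hval : ∀ h, Polynomial.aeval (x h) P = 0 := by
    intro h
    rw [hP, map_prod]
    refine Finset.prod_eq_zero (i := Module.finrank (ZMod p) (fixedPart ρ h))
      (Finset.mem_range.2 (Nat.lt_succ_of_le (Submodule.finrank_le _))) ?_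
    simp only [hx]
    rw [Module.natCard_eq_pow_finrank (K := ZMod p) (V := fixedPart ρ h), Nat.card_zmod]
    simp
  have hx0 : ∀ h, x h ≠ 0 := fun h => Nat.cast_ne_zero.2 Nat.card_pos.ne'
  set R := P.divX with hR
  set c := P.coeff 0 with hc
  have hcR : ∀ h, (c : ℂ) / x h = -(Polynomial.aeval (x h) R) := by
    intro h
    have h1 := hval h
    rw [← Polynomial.X_mul_divX_add P, map_add, map_mul, Polynomial.aeval_X, Polynomial.aeval_C]
      at h1
    rw [div_eq_iff (hx0 h)]
    simp only [algebraMap_int_eq, eq_intCast] at h1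
    linear_combination h1
  have hpow : ∀ i : ℕ, IsCycComb (fun h => x h ^ i) := by
    intro i
    induction i with
    | zero => simpa using isCycComb_one (G := H)
    | succ i ih =>
      have := isCycComb_mul ih (isCycComb_card_fixed ρ)
      simp only [pow_succ]
      exact this
  have hRc : IsCycComb (fun h => Polynomial.aeval (x h) R) := by
    have e : (fun h => Polynomial.aeval (x h) R) =
        ∑ i ∈ Finset.range (R.natDegree + 1), (R.coeff i : ℂ) • fun h => x h ^ i := by
      funext h
      rw [Polynomial.aeval_eq_sum_range, Finset.sum_apply]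
      simp [zsmul_eq_mul]
    rw [e]
    exact isCycComb_sum _ fun i _ => isCycComb_smul (intCast_mem cycInt _) (hpow i)
  refine ⟨2 * ∑ j ∈ Finset.range (n + 1), j, ?_⟩
  have hc2 : (c : ℂ) * c = (p : ℂ) ^ (2 * ∑ j ∈ Finset.range (n + 1), j) := by
    rw [hc, hP, Polynomial.coeff_zero_eq_eval_zero, Polynomial.eval_prod]
    simp only [Polynomial.eval_sub, Polynomial.eval_X, Polynomial.eval_C, zero_sub]
    push_cast
    rw [← Finset.prod_mul_distrib]
    simp only [neg_mul_neg, ← pow_add, Finset.prod_pow_eq_pow_sum, ← two_mul, Finset.mul_sum]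
  have e2 : (fun h => (p : ℂ) ^ (2 * ∑ j ∈ Finset.range (n + 1), j) / (Nat.card (fixedPart ρ h) : ℂ))
      = (-(c : ℂ)) • fun h => Polynomial.aeval (x h) R := by
    funext h
    rw [Pi.smul_apply, smul_eq_mul, ← hc2, mul_div_assoc, hcR]
    ring
  rw [e2]
  exact isCycComb_smul (neg_mem (intCast_mem cycInt c)) hRc

end Cfsg.Agent.Lib.KGV
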