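import Cfsg.Agent.Lib.KGV.Heis

/-!
# The Weil character divided into a cyclotomic combination with values `√|U : C_U(h)|`
-/

set_option autoImplicit false

namespace Cfsg.Agent.Lib.KGV

open Cfsg.Agent.Lib Cfsg.Agent.Lib.Blocks
open scoped ComplexConjugate

universe u v

variable {p : ℕ} [hp : Fact p.Prime] {H : Type u} [Group H] [Finite H] {U : Type v}
  [AddCommGroup U] [Module (ZMod p) U] [Finite U] {A : LinearMap.BilinForm (ZMod p) U}
  {hA : A.IsAlt} (S : Schroedinger A hA)

namespace Schroedinger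

omit [Finite U] in
theorem rep_eq (x : Heis A hA) : S.rep x = S.e x.s • S.π x.v := by
  have e1 : x = (⟨0, x.s⟩ : Heis A hA) * ⟨x.v, 0⟩ :=
    Heis.ext (by simp [Heis.mul_v]) (by simp [Heis.mul_s])
  conv_lhs => rw [e1]
  rw [map_mul, S.rep_centre, smul_one_mul]
  rfl

omit [Finite U] in
theorem scalar_of_commute (X : Module.End ℂ (Fin S.d → ℂ)) (h : ∀ u, X * S.π u = S.π u * X) :
    ∃ c : ℂ, X = c • 1 := by
  have : S.rep.IsIrreducible := S.irr
  exact Clifford.schur_scalar S.rep X fun x => by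
    rw [S.rep_eq, mul_smul_comm, smul_mul_assoc, h]

theorem sum_conj [Fintype U] (X : Module.End ℂ (Fin S.d → ℂ)) :
    ∑ u, S.π u * X * S.π (-u) = ((S.d : ℂ) * LinearMap.trace ℂ _ X) • 1 := by
  set K := ∑ u, S.π u * X * S.π (-u) with hK
  have hconj : ∀ w, S.π w * K * S.π (-w) = K := by
    intro w
    rw [hK, Finset.mul_sum, Finset.sum_mul]
    refine Fintype.sum_equiv (Equiv.addLeft w) _ _ fun u => ?_
    have e1 : S.π w * (S.π u * X * S.π (-u)) * S.π (-w) =
        (S.π w * S.π u) * X * (S.π (-u) * S.π (-w)) := by simp only [mul_assoc]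
    rw [e1, S.π_mul, S.π_mul, Equiv.coe_addLeft, smul_mul_assoc, smul_mul_assoc, mul_smul_comm,
      smul_smul, ← AddChar.map_add_eq_mul, show -u + -w = -(w + u) by abel]
    rw [show 2⁻¹ * A w u + 2⁻¹ * A (-u) (-w) = 0 by
      simp only [map_neg, LinearMap.neg_apply, neg_neg]
      rw [← LinearMap.IsAlt.neg hA w u]; ring, AddChar.map_zero_eq_one, one_smul]
  obtain ⟨c, hc⟩ := S.scalar_of_commute K fun w => by
    conv_lhs => rw [← hconj w]
    rw [mul_assoc, S.π_neg_mul, mul_one]
  have htr : (Nat.card U : ℂ) * LinearMap.trace ℂ _ X = c * S.d := by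
    have h1 := congrArg (LinearMap.trace ℂ _) hc
    rw [hK, map_sum, map_smul, trace_one, smul_eq_mul,
      Finset.sum_congr rfl (g := fun _ => LinearMap.trace ℂ _ X) fun u _ => by
        rw [LinearMap.trace_mul_comm, ← mul_assoc, S.π_neg_mul, one_mul],
      Finset.sum_const, Finset.card_univ, ← Nat.card_eq_fintype_card, nsmul_eq_mul] at h1
    exact h1
  rw [hc]
  congr 1
  refine mul_right_cancel₀ (b := (S.d : ℂ)) (Nat.cast_ne_zero.2 S.d_pos.ne') ?_
  rw [← htr, ← S.dd]
  push_cast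
  ring

/-- The automorphism of the Heisenberg group induced by a symplectic map. -/
noncomputable def autHom (ρ : Representation (ZMod p) H U)
    (hAi : ∀ g x y, A (ρ g x) (ρ g y) = A x y) (h : H) : Heis A hA →* Heis A hA where
  toFun x := ⟨ρ h x.v, x.s⟩
  map_one' := Heis.ext (map_zero _) rfl
  map_mul' x y := Heis.ext (map_add _ _ _) (by
    show x.s + y.s + 2⁻¹ * A x.v y.v = x.s + y.s + 2⁻¹ * A (ρ h x.v) (ρ h y.v)
    rw [hAi])

theorem exists_intertwiner (ρ : Representation (ZMod p) H U)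
    (hAi : ∀ g x y, A (ρ g x) (ρ g y) = A x y) (h : H) :
    ∃ T : Module.End ℂ (Fin S.d → ℂ), LinearMap.det T = 1 ∧
      ∀ u, T * S.π u = S.π (ρ h u) * T := by
  have : Finite (Heis A hA) := Finite.of_equiv _ (Heis.equivProd A hA).symm
  have : S.rep.IsIrreducible := S.irr
  set σ : Representation ℂ (Heis A hA) (Fin S.d → ℂ) :=
    S.rep.comp (autHom ρ hAi h)
  have hchar : S.rep.character = σ.character := by
    funext x
    show S.rep.character x = S.rep.character (autHom ρ hAi h x)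
    by_cases hx : x.v = 0
    · rw [show autHom ρ hAi h x = x from Heis.ext (by simp [autHom, hx]) rfl]
    · have hne : ρ h x.v ≠ 0 := fun h0 => hx (by
        have h1 := congrArg (ρ h⁻¹) h0
        rwa [← Module.End.mul_apply, ← map_mul, inv_mul_cancel, map_one, Module.End.one_apply,
          map_zero] at h1)
      rw [S.char_off x hx, S.char_off _ hne]
  obtain ⟨φ⟩ := Chars.equiv_of_char_eq S.rep σ hchar
  set T₀ : Module.End ℂ (Fin S.d → ℂ) := φ.toLinearEquiv.toLinearMap
  have hT₀ : ∀ u, T₀ * S.π u = S.π (ρ h u) * T₀ := fun u =>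
    LinearMap.ext fun w => LinearMap.congr_fun (φ.isIntertwining' ⟨u, 0⟩) w
  obtain ⟨c, hc⟩ := IsAlgClosed.exists_pow_nat_eq (LinearMap.det T₀)⁻¹ S.d_pos
  refine ⟨c • T₀, ?_, fun u => by rw [smul_mul_assoc, hT₀, mul_smul_comm]⟩
  rw [LinearMap.det_smul, Module.finrank_fin_fun, hc,
    inv_mul_cancel₀ (LinearEquiv.isUnit_det' φ.toLinearEquiv).ne_zero]

omit [Finite U] in
theorem intertwiner_unique {X Y : Module.End ℂ (Fin S.d → ℂ)} {f : U → U}
    (hX : ∀ u, X * S.π u = S.π (f u) * X) (hY : ∀ u, Y * S.π u = S.π (f u) * Y)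
    (hdX : LinearMap.det X = 1) (hdY : LinearMap.det Y = 1) :
    ∃ c : ℂ, c ^ S.d = 1 ∧ X = c • Y := by
  have hu : IsUnit Y := (LinearMap.isUnit_iff_isUnit_det Y).2 (hdY ▸ isUnit_one)
  obtain ⟨Yu, rfl⟩ := hu
  obtain ⟨c, hc⟩ := S.scalar_of_commute ((Yu⁻¹ : (Module.End ℂ (Fin S.d → ℂ))ˣ) * X) fun u => by
    have h1 : S.π u * ((Yu⁻¹ : (Module.End ℂ (Fin S.d → ℂ))ˣ) : Module.End ℂ (Fin S.d → ℂ)) =
        (Yu⁻¹ : (Module.End ℂ (Fin S.d → ℂ))ˣ) * S.π (f u) := by
      rw [Units.eq_inv_mul_iff_mul_eq, ← mul_assoc, hY, mul_assoc, Units.mul_inv, mul_one]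
    rw [mul_assoc, hX, ← mul_assoc, ← mul_assoc, h1]
  have hXc : X = c • (Yu : Module.End ℂ (Fin S.d → ℂ)) := by
    rw [Units.inv_mul_eq_iff_eq_mul] at hc
    rw [hc, mul_smul_comm, mul_one]
  refine ⟨c, ?_, hXc⟩
  have h2 := congrArg LinearMap.det hXc
  rw [hdX, LinearMap.det_smul, Module.finrank_fin_fun, hdY, mul_one] at h2
  exact h2.symm

/-- The Weil representation of a coprime group. -/
theorem exists_weil (hH : ¬ p ∣ Nat.card H) (ρ : Representation (ZMod p) H U)
    (hAi : ∀ g x y, A (ρ g x) (ρ g y) = A x y) :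
    ∃ Q : Representation ℂ H (Fin S.d → ℂ), ∀ h u, Q h * S.π u = S.π (ρ h u) * Q h := by
  classical
  cases nonempty_fintype H
  choose T hdet hT using S.exists_intertwiner ρ hAi
  have hTT : ∀ a b, ∀ u, T a * T b * S.π u = S.π (ρ (a * b) u) * (T a * T b) := fun a b u => by
    rw [mul_assoc, hT, ← mul_assoc, hT, map_mul, Module.End.mul_apply, mul_assoc]
  choose α hαd hα using fun a b => S.intertwiner_unique (hTT a b) (hT (a * b))
    (by rw [map_mul, hdet, hdet, mul_one]) (hdet _)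
  have hα0 : ∀ a b, α a b ≠ 0 := fun a b h => by
    simpa [h, zero_pow S.d_pos.ne'] using hαd a b
  have hTne : ∀ a, T a ≠ 0 := fun a h => by
    have h1 := hdet a
    rw [h, LinearMap.det_zero, Module.finrank_fin_fun, zero_pow S.d_pos.ne'] at h1
    exact zero_ne_one h1
  have hco : ∀ a b x, α a b * α (a * b) x = α b x * α a (b * x) := by
    intro a b x
    have h1 : (α a b * α (a * b) x) • T (a * b * x) = (α b x * α a (b * x)) • T (a * b * x) := by
      calc (α a b * α (a * b) x) • T (a * b * x) = T a * T b * T x := by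
            rw [hα a b, smul_mul_assoc, hα (a * b) x, smul_smul]
        _ = T a * (T b * T x) := mul_assoc _ _ _
        _ = _ := by rw [hα b x, mul_smul_comm, hα a (b * x), smul_smul, mul_assoc a b x]
    exact smul_left_injective ℂ (hTne _) h1
  let c : H → ℂ := fun a => ∏ x, α a x
  have hc0 : ∀ a, c a ≠ 0 := fun a => Finset.prod_ne_zero_iff.2 fun x _ => hα0 a x
  have hprod : ∀ a b, α a b ^ Nat.card H * c (a * b) = c a * c b := by
    intro a b
    have h1 : ∏ x, α a b * α (a * b) x = ∏ x, α b x * α a (b * x) :=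
      Finset.prod_congr rfl fun x _ => hco a b x
    rw [Finset.prod_mul_distrib, Finset.prod_mul_distrib, Finset.prod_const, Finset.card_univ,
      ← Nat.card_eq_fintype_card] at h1
    rw [h1, mul_comm (c a)]
    congr 1
    exact Fintype.prod_equiv (Equiv.mulLeft b) _ _ fun x => rfl
  obtain ⟨s, t, hst⟩ : IsCoprime (Nat.card H : ℤ) (S.d : ℤ) := by
    rw [Int.isCoprime_iff_nat_coprime]
    simp only [Int.natAbs_natCast]
    have h1 : S.d ∣ p ^ Module.finrank (ZMod p) U := by
      have := Module.natCard_eq_pow_finrank (K := ZMod p) (V := U)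
      rw [Nat.card_zmod, ← S.dd] at this
      exact this ▸ dvd_mul_right _ _
    exact ((hp.out.coprime_iff_not_dvd.2 hH).symm.pow_right _).coprime_dvd_right h1
  let T' : H → Module.End ℂ (Fin S.d → ℂ) := fun a => (c a ^ (-s)) • T a
  have hmul : ∀ a b, T' a * T' b = T' (a * b) := by
    intro a b
    simp only [T', smul_mul_smul_comm, hα a b, smul_smul]
    congr 1
    have e1 : α a b = (α a b ^ Nat.card H) ^ s := by
      conv_lhs => rw [← zpow_one (α a b), ← hst, zpow_add₀ (hα0 a b), mul_comm s, mul_comm t,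
        zpow_mul, zpow_mul, zpow_natCast, zpow_natCast, hαd, one_zpow, mul_one]
    have e2 : α a b ^ Nat.card H = c a * c b / c (a * b) :=
      (eq_div_iff (hc0 _)).2 (hprod a b)
    rw [e1, e2, div_zpow, mul_zpow, zpow_neg, zpow_neg, zpow_neg]
    field_simp [zpow_ne_zero, hc0]
  have hT'ne : ∀ a, IsUnit (T' a) := fun a => by
    rw [LinearMap.isUnit_iff_isUnit_det, LinearMap.det_smul, hdet, mul_one, isUnit_iff_ne_zero]
    exact pow_ne_zero _ (zpow_ne_zero _ (hc0 a))
  refine ⟨{ toFun := T', map_one' := ?_, map_mul' := fun a b => (hmul a b).symm }, fun h u => ?_⟩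
  · have h1 := hmul 1 1
    rw [one_mul] at h1
    exact (hT'ne 1).mul_eq_left.1 h1
  · show T' h * S.π u = S.π (ρ h u) * T' h
    simp only [T', smul_mul_assoc, hT, mul_smul_comm]

variable {S}

theorem trace_mul_trace_inv (hH : ¬ p ∣ Nat.card H) {ρ : Representation (ZMod p) H U}
    {Q : Representation ℂ H (Fin S.d → ℂ)} (hQ : ∀ h u, Q h * S.π u = S.π (ρ h u) * Q h) (h : H) :
    Q.character h * conj (Q.character h) = (Nat.card (fixedPart ρ h) : ℂ) := by
  classical
  cases nonempty_fintype U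
  have hd : (S.d : ℂ) ≠ 0 := Nat.cast_ne_zero.2 S.d_pos.ne'
  rw [← Chars.char_inv]
  refine mul_left_cancel₀ hd ?_
  have h1 : LinearMap.trace ℂ _ ((∑ u, S.π u * Q h * S.π (-u)) * Q h⁻¹) =
      (S.d : ℂ) * (Q.character h * Q.character h⁻¹) := by
    rw [S.sum_conj, smul_one_mul, map_smul, smul_eq_mul, mul_assoc]
    rfl
  rw [← h1, Finset.sum_mul, map_sum]
  have h2 : ∀ u, LinearMap.trace ℂ _ (S.π u * Q h * S.π (-u) * Q h⁻¹) =
      if ρ h u = u then (S.d : ℂ) else 0 := by
    intro u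
    rw [mul_assoc (S.π u), hQ, mul_assoc (S.π u), mul_assoc (S.π _), ← map_mul, mul_inv_cancel,
      map_one, mul_one, map_neg, S.π_mul, map_smul, smul_eq_mul]
    split_ifs with hu
    · rw [hu, add_neg_cancel, π_zero, trace_one, map_neg, hA u, neg_zero, mul_zero,
        AddChar.map_zero_eq_one, one_mul]
    · rw [S.trace_π (fun h0 => hu (add_neg_eq_zero.1 h0).symm), mul_zero]
  rw [Finset.sum_congr rfl fun u _ => h2 u, ← Finset.sum_filter, Finset.sum_const, nsmul_eq_mul,
    ← Fintype.card_subtype, ← Nat.card_eq_fintype_card, mul_comm]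
  congr 2
  exact Nat.card_congr (Equiv.subtypeEquivRight fun x => mem_fixedPart.symm)

/-- A maximal isotropic subspace of the fixed points. -/
theorem exists_lagrangian (hH : ¬ p ∣ Nat.card H) {ρ : Representation (ZMod p) H U}
    (hAi : ∀ g x y, A (ρ g x) (ρ g y) = A x y) (hnd : ∀ x, (∀ y, A x y = 0) → x = 0)
    (hA' : A.IsAlt) (h : H) :
    ∃ L : Submodule (ZMod p) U, L ≤ fixedPart ρ h ∧ (∀ a ∈ L, ∀ b ∈ L, A a b = 0) ∧
      Nat.card L * Nat.card L = Nat.card (fixedPart ρ h) := by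
  classical
  set C := fixedPart ρ h with hC
  let Iso := {L : Submodule (ZMod p) U | L ≤ C ∧ ∀ a ∈ L, ∀ b ∈ L, A a b = 0}
  have : Finite (Submodule (ZMod p) U) := Finite.of_injective _ SetLike.coe_injective
  obtain ⟨L, ⟨hLC, hLi⟩, hLmax⟩ := (Set.toFinite Iso).exists_maximal
    ⟨⊥, bot_le, fun a ha b _ => by rw [(Submodule.mem_bot _).1 ha]; simp⟩
  refine ⟨L, hLC, hLi, ?_⟩
  let f : C →ₗ[ZMod p] Module.Dual (ZMod p) L :=
    ((LinearMap.lcomp (ZMod p) (ZMod p) L.subtype) ∘ₗ A) ∘ₗ C.subtype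
  have hker : LinearMap.ker f = L.comap C.subtype := by
    ext ⟨x, hx⟩
    constructor
    · intro hx0
      have hx0' : ∀ b ∈ L, A x b = 0 := fun b hb => LinearMap.congr_fun hx0 ⟨b, hb⟩
      refine (hLmax (y := L ⊔ Submodule.span (ZMod p) {x}) ⟨sup_le hLC ((Submodule.span_singleton_le_iff_mem _ _).2 hx),
        ?_⟩ le_sup_left) (Submodule.mem_sup_right (Submodule.mem_span_singleton_self x))
      intro a ha b hb
      obtain ⟨a₁, ha₁, _, ha₂, rfl⟩ := Submodule.mem_sup.1 ha
      obtain ⟨b₁, hb₁, _, hb₂, rfl⟩ := Submodule.mem_sup.1 hb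
      obtain ⟨i, rfl⟩ := Submodule.mem_span_singleton.1 ha₂
      obtain ⟨j, rfl⟩ := Submodule.mem_span_singleton.1 hb₂
      simp [map_add, hLi a₁ ha₁ b₁ hb₁, hx0' b₁ hb₁,
        ← LinearMap.IsAlt.neg hA' x a₁, hx0' a₁ ha₁, hA' x]
    · intro hxL
      exact LinearMap.ext fun b => hLi x hxL b b.2
  have hsurj : Function.Surjective f := by
    let g : L →ₗ[ZMod p] Module.Dual (ZMod p) C :=
      ((LinearMap.lcomp (ZMod p) (ZMod p) C.subtype) ∘ₗ A.flip) ∘ₗ L.subtype
    have hg : Function.Injective g := by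
      rw [← LinearMap.ker_eq_bot, Submodule.eq_bot_iff]
      intro a ha
      refine Subtype.ext (form_nondeg_part hH hAi hnd h (hLC a.2) fun y hy => ?_)
      have h1 : A y a = 0 := LinearMap.congr_fun ha ⟨y, hy⟩
      rw [← LinearMap.IsAlt.neg hA' y a, h1, neg_zero]
    have h2 := LinearMap.dualMap_surjective_of_injective hg
    intro φ
    obtain ⟨Φ, hΦ⟩ := h2 φ
    obtain ⟨x, hx⟩ := (Module.evalEquiv (ZMod p) C).surjective Φ
    refine ⟨x, LinearMap.ext fun b => ?_⟩
    rw [← hΦ, ← hx]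
    rfl
  have h3 := LinearMap.finrank_range_add_finrank_ker f
  rw [LinearMap.range_eq_top.2 hsurj, finrank_top, Subspace.dual_finrank_eq, hker,
    (Submodule.comapSubtypeEquivOfLe hLC).finrank_eq] at h3
  rw [Module.natCard_eq_pow_finrank (K := ZMod p) (V := L),
    Module.natCard_eq_pow_finrank (K := ZMod p) (V := C), ← pow_add, h3]

/-- The character of the Weil representation is divisible by `√|C_U(h)|`. -/
theorem exists_weil_factor (hH : ¬ p ∣ Nat.card H) (hodd : (2 : ZMod p) ≠ 0)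
    {ρ : Representation (ZMod p) H U} {Q : Representation ℂ H (Fin S.d → ℂ)}
    (hQ : ∀ h u, Q h * S.π u = S.π (ρ h u) * Q h)
    (hAi : ∀ g x y, A (ρ g x) (ρ g y) = A x y) (hnd : ∀ x, (∀ y, A x y = 0) → x = 0) (h : H) :
    ∃ (l : ℕ) (z : ℂ), l * l = Nat.card (fixedPart ρ h) ∧ z ∈ cycInt ∧
      Q.character h = (l : ℂ) * z := by
  classical
  obtain ⟨L, hLC, hLi, hLcard⟩ := exists_lagrangian hH hAi hnd hA h
  cases nonempty_fintype U
  set C := fixedPart ρ h with hC
  let _ : Fintype L := Fintype.ofFinite _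
  let _ : Fintype C := Fintype.ofFinite _
  set E : Module.End ℂ (Fin S.d → ℂ) := (Nat.card L : ℂ)⁻¹ • ∑ l : L, S.π l with hE
  have hL0 : (Nat.card L : ℂ) ≠ 0 := Nat.cast_ne_zero.2 Nat.card_pos.ne'
  have hQπ : ∀ c ∈ C, Q h * S.π c = S.π c * Q h := fun c hc => by rw [hQ, mem_fixedPart.1 hc]
  have hEQ : Q h * E = E * Q h := by
    rw [hE, mul_smul_comm, smul_mul_assoc, Finset.mul_sum, Finset.sum_mul]
    exact congrArg _ (Finset.sum_congr rfl fun l _ => hQπ l (hLC l.2))
  have hEE : E * E = E := by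
    rw [hE, smul_mul_smul_comm, Finset.sum_mul,
      Finset.sum_congr rfl (g := fun _ => ∑ l : L, S.π l) fun a _ => by
        rw [Finset.mul_sum]
        exact Fintype.sum_equiv (Equiv.addLeft a) _ _ fun b => by
          rw [S.π_mul, hLi a a.2 b b.2, mul_zero, AddChar.map_zero_eq_one, one_smul]
          rfl,
      Finset.sum_const, Finset.card_univ, ← Nat.card_eq_fintype_card,
      ← Nat.cast_smul_eq_nsmul ℂ, smul_smul]
    congr 1
    field_simp
  have hsum : ∑ c : C, S.π c * E * S.π (-(c : U)) =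
      ((Nat.card C : ℂ) / (Nat.card L : ℂ)) • 1 := by
    have h1 : ∀ c : C, S.π c * E * S.π (-(c : U)) =
        (Nat.card L : ℂ)⁻¹ • ∑ l : L, S.e (A c l) • S.π l := fun c => by
      rw [hE, mul_smul_comm, smul_mul_assoc, Finset.mul_sum, Finset.sum_mul]
      refine congrArg _ (Finset.sum_congr rfl fun l _ => ?_)
      rw [S.π_comm hodd, smul_mul_assoc, mul_assoc, S.π_mul_neg, mul_one]
    rw [Finset.sum_congr rfl fun c _ => h1 c, ← Finset.smul_sum, Finset.sum_comm,
      Finset.sum_eq_single (0 : L)]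
    · simp only [ZeroMemClass.coe_zero, map_zero, AddChar.map_zero_eq_one, one_smul, π_zero,
        Finset.sum_const, Finset.card_univ, ← Nat.card_eq_fintype_card]
      rw [← Nat.cast_smul_eq_nsmul ℂ, smul_smul, inv_mul_eq_div]
    · intro l _ hl
      rw [← Finset.sum_smul]
      refine smul_eq_zero_of_left (sum_eps_eq_zero S.e_ne (f := (A.flip (l : U)).comp C.subtype) ?_) _
      intro h0
      refine hl (Subtype.ext (form_nondeg_part hH hAi hnd h (hLC l.2) fun y hy => ?_))
      have h2 : A y l = 0 := LinearMap.congr_fun h0 ⟨y, hy⟩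
      rw [← LinearMap.IsAlt.neg hA y l, h2, neg_zero]
    · simp
  refine ⟨Nat.card L, LinearMap.trace ℂ _ (Q h * E), hLcard, ?_, ?_⟩
  · set W := LinearMap.range E
    have hW : ∀ g ∈ Subgroup.zpowers h, ∀ w ∈ W, Q g w ∈ W := by
      intro g hg
      rw [← mem_powers_iff_mem_zpowers] at hg
      obtain ⟨i, rfl⟩ := hg
      rintro _ ⟨x, rfl⟩
      refine ⟨Q (h ^ i) x, ?_⟩
      have hc : Commute (Q h) E := hEQ
      show E (Q (h ^ i) x) = Q (h ^ i) (E x)
      rw [map_pow, ← Module.End.mul_apply, ← Module.End.mul_apply, (hc.pow_left i).eq]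
    let R : Representation ℂ (Subgroup.zpowers h) W :=
      { toFun := fun g => (Q (g : H)).restrict (hW g g.2)
        map_one' := LinearMap.ext fun x => Subtype.ext (by simp)
        map_mul' := fun a b => LinearMap.ext fun x => Subtype.ext (by simp) }
    have hfix : ∀ w ∈ W, E w = w := by
      rintro _ ⟨x, rfl⟩
      exact LinearMap.congr_fun hEE x
    have hmem : ∀ x, (Q h * E) x ∈ W := fun x =>
      hW h (Subgroup.mem_zpowers h) _ ⟨x, rfl⟩
    have h1 := LinearMap.trace_restrict_eq_of_forall_mem W (Q h * E) hmem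
    have h2 : (Q h * E).restrict (fun x _ => hmem x) = R ⟨h, Subgroup.mem_zpowers h⟩ :=
      LinearMap.ext fun w => Subtype.ext (by
        show Q h (E w) = Q h w
        rw [hfix w w.2])
    rw [← h1, h2]
    exact char_mem_cycInt (Chars.isCharacter_of_rep R) _
  · have h3 : ∑ c : C, LinearMap.trace ℂ _ (Q h * (S.π c * E * S.π (-(c : U)))) =
        (Nat.card C : ℂ) * LinearMap.trace ℂ _ (Q h * E) := by
      rw [Finset.sum_congr rfl (g := fun _ => LinearMap.trace ℂ _ (Q h * E)) fun c _ => by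
        rw [← mul_assoc, ← mul_assoc, hQπ c c.2, LinearMap.trace_mul_comm, ← mul_assoc, ← mul_assoc,
          S.π_neg_mul, one_mul], Finset.sum_const, Finset.card_univ,
        ← Nat.card_eq_fintype_card, nsmul_eq_mul]
    rw [← map_sum, ← Finset.mul_sum, hsum, mul_smul_comm, mul_one, map_smul, smul_eq_mul] at h3
    have hC0 : (Nat.card C : ℂ) ≠ 0 := Nat.cast_ne_zero.2 Nat.card_pos.ne'
    show LinearMap.trace ℂ _ (Q h) = _
    field_simp at h3 ⊢
    linear_combination h3

end Schroedinger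

/-- Symplectic modules of coprime groups in odd characteristic have the combination `ψ`. -/
theorem hasPsi_weil (hH : ¬ p ∣ Nat.card H) (hodd : (2 : ZMod p) ≠ 0) {M : Ideal AlgInt}
    (hM : IsPModular p M) (ρ : Representation (ZMod p) H U)
    (A : LinearMap.BilinForm (ZMod p) U) (hA : A.IsAlt) (hnd : ∀ x, (∀ y, A x y = 0) → x = 0)
    (hAi : ∀ g x y, A (ρ g x) (ρ g y) = A x y) : HasPsi ρ M := by
  classical
  have : M.IsPrime := isPModular_isPrime hM
  obtain ⟨S⟩ := exists_schroedinger A hA hnd hodd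
  obtain ⟨Q, hQ⟩ := S.exists_weil hH ρ hAi
  choose l z hl hz hQz using Schroedinger.exists_weil_factor hH hodd hQ hAi hnd
  set n : H → ℂ := fun h => (Nat.card (fixedPart ρ h) : ℂ) with hn
  let ψ : H → ℂ := fun h => (S.d : ℂ) * Q.character h / n h
  have hn0 : ∀ h, n h ≠ 0 := fun h => Nat.cast_ne_zero.2 Nat.card_pos.ne'
  -- the quotient of the two square roots
  have hfac : ∀ h, ∃ j : ℕ, S.d = l h * p ^ j ∧ Nat.card (movedPart ρ h) = p ^ (2 * j) := by
    intro h
    have hU := card_fixed_mul_moved hH ρ h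
    rw [← hl h, ← S.dd] at hU
    have hdvd : l h ∣ S.d := by
      refine (Nat.pow_dvd_pow_iff two_ne_zero).1 ?_
      rw [sq, sq, ← hU]
      exact dvd_mul_right _ _
    obtain ⟨r, hr⟩ := hdvd
    rw [hr] at hU
    have hl0 : l h ≠ 0 := fun h0 => by
      have := hl h
      rw [h0, zero_mul] at this
      exact Nat.card_pos.ne this
    have hD : Nat.card (movedPart ρ h) = r * r := by
      have : l h * l h * Nat.card (movedPart ρ h) = l h * l h * (r * r) := by rw [hU]; ring
      exact Nat.eq_of_mul_eq_mul_left (Nat.pos_of_ne_zero (mul_ne_zero hl0 hl0)) this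
    have hpow := Module.natCard_eq_pow_finrank (K := ZMod p) (V := movedPart ρ h)
    rw [Nat.card_zmod, hD] at hpow
    obtain ⟨j, -, hj⟩ := (Nat.dvd_prime_pow hp.out).1 (hpow ▸ dvd_mul_right r r)
    exact ⟨j, by rw [hr, hj], by rw [hD, hj, ← pow_add, two_mul]⟩
  choose j hj hjD using hfac
  have hψeq : ∀ h, ψ h = (p : ℂ) ^ j h * z h := by
    intro h
    simp only [ψ, hn]
    rw [div_eq_iff (hn0 h), hQz]
    show _ = _ * (Nat.card (fixedPart ρ h) : ℂ)
    rw [← hl h, hj h]
    push_cast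
    ring
  have hcl : IsClassFunction H ψ := by
    intro h k
    simp only [ψ]
    have h1 := Chars.isClassFunction_of_isCharacter (Chars.isCharacter_of_rep Q) h k
    have h2 := isCycComb_isClassFunction (isCycComb_card_fixed ρ) h k
    simp only [hn] at h2 ⊢
    rw [h1, h2]
  obtain ⟨N, hN⟩ := exists_isCycComb_pow_div ρ
  have hpsi : IsCycComb (fun h => ((p : ℂ) ^ N) * ψ h) := by
    have h1 := isCycComb_smul (natCast_mem_cycInt S.d)
      (isCycComb_mul hN (isCycComb_of_isCharacter (Chars.isCharacter_of_rep Q)))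
    refine (show (fun h => ((p : ℂ) ^ N) * ψ h) = _ from funext fun h => ?_) ▸ h1
    simp only [Pi.smul_apply, Pi.mul_apply, smul_eq_mul, ψ, hn]
    ring
  refine ⟨ψ, isCycComb_of_pow_mul hH hcl
    (fun h => by rw [hψeq]; exact mul_mem (pow_mem (natCast_mem_cycInt p) _) (hz h)) hpsi, ?_,
    fun h => ?_, fun h hh => ?_⟩
  · simp only [ψ, hn, Representation.char_one, Module.finrank_fin_fun]
    rw [fixedPart_one, Nat.card_congr (Submodule.topEquiv (R := ZMod p) (M := U)).toEquiv, ← S.dd]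
    push_cast
    exact div_self (mul_ne_zero (Nat.cast_ne_zero.2 S.d_pos.ne') (Nat.cast_ne_zero.2 S.d_pos.ne'))
  · apply Complex.ofReal_injective
    rw [← Complex.mul_conj, Complex.ofReal_natCast]
    have h1 := Schroedinger.trace_mul_trace_inv hH hQ h
    simp only [ψ, hn, map_div₀, map_mul, Complex.conj_natCast]
    rw [div_mul_div_comm, mul_mul_mul_comm, h1, div_eq_iff (mul_ne_zero (hn0 h) (hn0 h))]
    rw [← Nat.cast_mul S.d S.d, S.dd, ← card_fixed_mul_moved hH ρ h]
    simp only [hn]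
    push_cast
    ring
  · rw [hψeq]
    obtain ⟨k, hk⟩ := one_lt_card_moved hH ρ hh
    have hj1 : j h ≠ 0 := by
      intro h0
      have := hjD h
      rw [hk, h0] at this
      exact absurd (Nat.pow_right_injective hp.out.two_le this) (by omega)
    refine memLocalIdeal_mul_right ?_ (mem_localRing.1 (isIntegral_mem_localRing (isIntegral_of_mem_cycInt (hz h))))
    rw [← Nat.cast_pow, memLocalIdeal_natCast_iff hM]
    exact dvd_pow_self p hj1

end Cfsg.Agent.Lib.KGV
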